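import Groth.Prelude.Def_Curv2
import Groth.Prelude.Def_CurvBase
import Groth.Agent.Krr.H495.ExtExist
import Groth.Agent.Krr.H495.Rank
import Groth.Agent.Krr.H487.PullExt
import Groth.Agent.Sga67.TensorOps
import Groth.Agent.VarietyA.DegRank
import Mathlib.RingTheory.RegularLocalRing.Defs

/-!
# The alternating sums `Σ (-1)^i χ(X, Λ^i G)` and zeros of maps `t : G ⟶ O_X`

Conventions for S4009 (coherent half of the Gauss–Bonnet formula `∫ e(G) = Σ (-1)^i χ(Z, Λ^i G)`):

* `extPow G i`: a chosen `i`-th exterior power of a finite locally free module `G`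
  (`isExtPow_extPow`, `isFinLocFree_extPow`, uniqueness `nonempty_iso_extPow`);
* `c k r G = Σ_{i ≤ r} (-1)^i χ(X, Λ^i G)`, `cF k r F G = Σ_{i ≤ r} (-1)^i χ(X, F ⊗ Λ^i G)`;
* `zeroIdeal t z`: the ideal of `O_{X,z}` generated by the germs of the values of `t : G ⟶ O_X`;
* `IsSimpleZero t z`: `O_{X,z}` is regular and `zeroIdeal t z` is its maximal ideal.
-/

set_option autoImplicit false

universe u

open CategoryTheory CategoryTheory.Limits AlgebraicGeometry Opposite TopologicalSpace

namespace Groth.Agent.Vancyc.H326.ChiLam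

section Ext

variable {X : Scheme.{u}}

open Classical in
/-- a chosen `i`-th exterior power of the module `G` (meaningful for `G` finite locally free) -/
noncomputable def extPow (G : X.Modules) (i : ℕ) : X.Modules :=
  if h : ∃ L : X.Modules, ExtPow.IsExtPow i G L then h.choose else G

theorem isExtPow_extPow {G : X.Modules} (hG : FlatMod.IsFinLocFree G) (i : ℕ) :
    ExtPow.IsExtPow i G (extPow G i) := by
  have h : ∃ L : X.Modules, ExtPow.IsExtPow i G L := by
    obtain ⟨L, -, hL⟩ := Groth.Agent.Krr.H495.ExtExist.exists_isExtPow i G hG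
    exact ⟨L, hL⟩
  rw [extPow, dif_pos h]
  exact h.choose_spec

theorem isFinLocFree_extPow {G : X.Modules} (hG : FlatMod.IsFinLocFree G) (i : ℕ) :
    FlatMod.IsFinLocFree (extPow G i) :=
  Groth.Agent.Sga67.LocBasis.isFinLocFree_of_isExtPow hG (isExtPow_extPow hG i)

theorem nonempty_iso_extPow {G G' L : X.Modules} (hG : FlatMod.IsFinLocFree G) (e : G ≅ G') {i : ℕ}
    (hL : ExtPow.IsExtPow i G' L) : Nonempty (extPow G i ≅ L) :=
  Groth.Agent.Sga67.TensorOps.nonempty_iso_of_isExtPow e (isExtPow_extPow hG i) hL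

theorem nonempty_iso_extPow_iso {G G' : X.Modules} (hG : FlatMod.IsFinLocFree G)
    (hG' : FlatMod.IsFinLocFree G') (e : G ≅ G') (i : ℕ) : Nonempty (extPow G i ≅ extPow G' i) :=
  nonempty_iso_extPow hG e (isExtPow_extPow hG' i)

theorem isFinLocFree_of_rank {d : ℕ} {G : X.Modules} (hG : FlatMod.IsFinLocFreeOfRank d G) :
    FlatMod.IsFinLocFree G := fun x => by
  obtain ⟨U, hx, h⟩ := hG x
  exact ⟨U, d, hx, h⟩

end Ext

section Chi

variable (k : Type u) [Field k] {X : Scheme.{u}} [X.Over (Spec (CommRingCat.of k))]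

theorem euler_iso {F G : X.Modules} (e : F ≅ G) : Curv2.euler k X F = Curv2.euler k X G :=
  Groth.Agent.VarietyA.DegRank.euler_iso k e

/-- `Σ_{i ≤ r} (-1)^i χ(X, Λ^i G)` -/
noncomputable def c (r : ℕ) (G : X.Modules) : ℤ :=
  ∑ i ∈ Finset.range (r + 1), (-1 : ℤ) ^ i * Curv2.euler k X (extPow G i)

/-- `Σ_{i ≤ r} (-1)^i χ(X, F ⊗ Λ^i G)` -/
noncomputable def cF (r : ℕ) (F G : X.Modules) : ℤ :=
  ∑ i ∈ Finset.range (r + 1), (-1 : ℤ) ^ i * Curv2.euler k X (CohB1.tensorMod F (extPow G i))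

theorem c_eq {r : ℕ} {G : X.Modules} (hG : FlatMod.IsFinLocFree G) {L : ℕ → X.Modules}
    (hL : ∀ i ≤ r, ExtPow.IsExtPow i G (L i)) :
    c k r G = ∑ i ∈ Finset.range (r + 1), (-1 : ℤ) ^ i * Curv2.euler k X (L i) := by
  refine Finset.sum_congr rfl fun i hi => ?_
  obtain ⟨e⟩ := nonempty_iso_extPow hG (Iso.refl G) (hL i (by simpa [Nat.lt_succ_iff] using hi))
  rw [euler_iso k e]

theorem c_iso {r : ℕ} {G G' : X.Modules} (hG : FlatMod.IsFinLocFree G)
    (hG' : FlatMod.IsFinLocFree G') (e : G ≅ G') : c k r G = c k r G' := by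
  refine Finset.sum_congr rfl fun i _ => ?_
  obtain ⟨e'⟩ := nonempty_iso_extPow_iso hG hG' e i
  rw [euler_iso k e']

end Chi

section Zero

variable {X : Scheme.{u}} {G : X.Modules}

/-- the ideal of `O_{X,z}` generated by the germs at `z` of the values of `t : G ⟶ O_X` -/
noncomputable def zeroIdeal (t : G ⟶ Coh.structureModule X) (z : X) : Ideal (X.presheaf.stalk z) :=
  Ideal.span {b | ∃ (U : X.Opens) (hz : z ∈ U) (s : Γ(G, U)), b = X.presheaf.germ U z hz (t.app U s)}

/-- `z` is a simple zero of `t : G ⟶ O_X`: the local ring is regular and the values of `t` generate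
its maximal ideal -/
def IsSimpleZero (t : G ⟶ Coh.structureModule X) (z : X) : Prop :=
  IsRegularLocalRing (X.presheaf.stalk z) ∧ zeroIdeal t z = IsLocalRing.maximalIdeal (X.presheaf.stalk z)

end Zero

end Groth.Agent.Vancyc.H326.ChiLam
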