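import Groth.Agent.Vancyc.H326.FormulaA
import Groth.Agent.Vancyc.H691.Reduce

/-!
# S4009 from the Gauss–Bonnet formula
-/

set_option autoImplicit false

universe u

open CategoryTheory CategoryTheory.Limits AlgebraicGeometry Opposite TopologicalSpace
open Groth.Agent.Vancyc.H326.ChiLam Groth.Agent.Vancyc.H691

namespace Groth.Agent.Vancyc.H326.MainGB

/-- The coherent half of S4009 in terms of `chiCoh`. -/
theorem chiCoh_eq (k : Type u) [Field k] [IsAlgClosed k] {S X : Scheme.{u}}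
    (pS : S ⟶ Spec (CommRingCat.of k)) (pX : X ⟶ Spec (CommRingCat.of k))
    [IsProper pS] [SmoothOfRelativeDimension 1 pS] [IrreducibleSpace ↥S]
    (n : ℕ) [IsProper pX] [SmoothOfRelativeDimension (n + 1) pX]
    (f : X ⟶ S) (hf : f ≫ pS = pX) (F : Finset ↥X) (U : X.Opens) (hU : ∀ x : ↥X, x ∉ F → x ∈ U)
    (hUf : Smooth (U.ι ≫ f)) {Ω : Type u} [Field Ω] (η : Spec (CommRingCat.of Ω) ⟶ S)
    (hη : η.base (IsLocalRing.closedPoint Ω) = genericPoint ↥S) :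
    Reduce.chiCoh k pX (n + 1) = Reduce.chiCoh k pS 1 * Reduce.chiCoh Ω (pullback.snd f η) n -
      (-1) ^ n * ∑ x ∈ F, (VanCyc.milnor pX f x : ℤ) := by
  let _ : X.Over (Spec (CommRingCat.of k)) := ⟨pX⟩
  let _ : S.Over (Spec (CommRingCat.of k)) := ⟨pS⟩
  let _ : (pullback f η).Over (Spec (CommRingCat.of Ω)) := ⟨pullback.snd f η⟩
  exact FormulaA.coh_formula' pS pX rfl rfl n f hf F U hU hUf η hη rfl

/-- **S4009 from the Gauss–Bonnet formula.** -/
theorem main (hGB : Reduce.GB.{u}) (k : Type u) [Field k] [IsAlgClosed k] (ℓ : ℕ) (hℓ : ℓ.Prime)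
    (hℓk : (ℓ : k) ≠ 0) {S X : Scheme.{u}} (pS : S ⟶ Spec (CommRingCat.of k))
    (pX : X ⟶ Spec (CommRingCat.of k))
    [IsProper pS] [SmoothOfRelativeDimension 1 pS] [IrreducibleSpace ↥S]
    (n : ℕ) [IsProper pX] [SmoothOfRelativeDimension (n + 1) pX]
    (f : X ⟶ S) (hf : f ≫ pS = pX) (F : Finset ↥X) (U : X.Opens) (hU : ∀ x : ↥X, x ∉ F → x ∈ U)
    (hUf : Smooth (U.ι ≫ f)) {Ω : Type u} [Field Ω] [IsAlgClosed Ω] (η : Spec (CommRingCat.of Ω) ⟶ S)
    (hη : η.base (IsLocalRing.closedPoint Ω) = genericPoint ↥S) :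
    VanCyc.euler ℓ X (2 * (n + 1)) =
      VanCyc.euler ℓ S 2 * VanCyc.euler ℓ (pullback f η) (2 * n) -
        (-1) ^ n * ∑ x ∈ F, (VanCyc.milnor pX f x : ℤ) := by
  have hfin : {x : ↥X | x ∉ U}.Finite := F.finite_toSet.subset fun x hx => by
    by_contra h
    exact hx (hU x h)
  have h1 : IsProper (pullback.snd f η) := GenFib.proper_snd hf η
  have h2 : SmoothOfRelativeDimension n (pullback.snd f η) := GenFib.smooth_snd hf hfin hη n hUf
  have e1 := hGB k X pX (n + 1) ℓ hℓ hℓk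
  have e2 := hGB k S pS 1 ℓ hℓ hℓk
  have e3 := hGB Ω _ (pullback.snd f η) n ℓ hℓ (Reduce.natCast_ne_zero hℓk (η ≫ pS))
  rw [e1, e3, chiCoh_eq k pS pX n f hf F U hU hUf η hη, ← e2]

end Groth.Agent.Vancyc.H326.MainGB
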