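import Groth.Agent.CycB.StalkExact
import Groth.Agent.Sga67.LocBasis

/-!
# The coordinate ideal of a global section of a module

`secIdeal σ x`: for `σ` a global section of `E` the ideal `{φ(σ_x) : φ ∈ Hom(E_x, O_{X,x})}` of `O_{X,x}`
(generated by the coordinates of `σ_x` if `E_x` is free, `secIdeal_eq_span`).
-/

set_option autoImplicit false

universe u

open CategoryTheory CategoryTheory.Limits AlgebraicGeometry Opposite TopologicalSpace
open Groth.Agent.Sga67.Sec Groth.Agent.Sga67.LocBasis

namespace Groth.Agent.Vancyc.H326.SecIdeal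

variable {X : Scheme.{u}} {E : X.Modules}

/-- The ideal of `O_{X,x}` generated by the values `φ(σ_x)`, `φ : E_x → O_{X,x}` linear. -/
noncomputable def secIdeal (σ : Sec E (⊤ : X.Opens)) (x : X) : Ideal (X.presheaf.stalk x) :=
  Ideal.span {c | ∃ φ : E.presheaf.stalk x →ₗ[X.presheaf.stalk x] X.presheaf.stalk x,
    c = φ (E.presheaf.germ ⊤ x trivial σ)}

/-- The coordinate ideal in terms of a basis of the stalk. -/
theorem secIdeal_eq_span (σ : Sec E (⊤ : X.Opens)) (x : X) {ι : Type*} [Fintype ι]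
    (b : Module.Basis ι (X.presheaf.stalk x) (E.presheaf.stalk x)) :
    secIdeal σ x = Ideal.span (Set.range fun i => b.coord i (E.presheaf.germ ⊤ x trivial σ)) := by
  apply le_antisymm
  · rw [secIdeal, Ideal.span_le]
    rintro _ ⟨φ, rfl⟩
    have h : φ (E.presheaf.germ ⊤ x trivial σ) =
        ∑ i, b.repr (E.presheaf.germ ⊤ x trivial σ) i * φ (b i) := by
      conv_lhs => rw [← b.sum_repr (E.presheaf.germ ⊤ x trivial σ), map_sum]
      exact Finset.sum_congr rfl fun i _ => by rw [map_smul, smul_eq_mul]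
    rw [SetLike.mem_coe, h]
    exact Ideal.sum_mem _ fun i _ => Ideal.mul_mem_right _ _ (Ideal.subset_span ⟨i, rfl⟩)
  · rw [Ideal.span_le]
    rintro _ ⟨i, rfl⟩
    exact Ideal.subset_span ⟨b.coord i, rfl⟩

end Groth.Agent.Vancyc.H326.SecIdeal
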