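import Groth.Agent.Vancyc.H326.Star
import Groth.Agent.Krr.H502.KosSheaf
import Groth.Agent.Krr.H502.KosZero

/-!
# The wedge complex of a global section of a finite locally free module

For a section `σ` of `E` and exterior powers `L_p = Λ^p E` there are the maps `L_p ⟶ L_{p+1}`, `z ↦ σ ∧ z`
(`exists_wedge`); they compose to zero, and the complex is exact in degrees `< n` if it is locally (`LocWEx`).
-/

set_option autoImplicit false

universe u

open CategoryTheory CategoryTheory.Limits AlgebraicGeometry Opposite TopologicalSpace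
open Groth.Agent.Sga67.Sec Groth.Agent.Sga67.LocBasis Groth.Agent.Sga67.ExtSheaf
open Groth.Agent.Sga67.SymKoszulAlg Groth.Agent.Vancyc.H326.Star

namespace Groth.Agent.Vancyc.H326.WedgeSheaf

variable {X : Scheme.{u}}

/-- The specification of the wedge product with `σ`. -/
def IsWedge {a : ℕ} {E L L' : X.Modules} (σ : Sec E (⊤ : X.Opens)) (φ : Phi a E L) (ψ : Phi (a + 1) E L')
    (d : L ⟶ L') : Prop :=
  ∀ (U : X.affineOpens) (s : Sec L U.1), ψ U (appS d U.1 s) = crt (res E le_top σ) a (φ U s)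

/-- Wedge product with `σ`. -/
theorem exists_wedge {a : ℕ} {E L L' : X.Modules} (σ : Sec E (⊤ : X.Opens)) (φ : Phi a E L)
    (hφ : PhiComp φ) (ψ : Phi (a + 1) E L') (hψ : PhiComp ψ) : ∃ d : L ⟶ L', IsWedge σ φ ψ d := by
  obtain ⟨g, hg⟩ := exists_hom_of_basis' (affineBasis X) L L'
    (fun U => (ψ U).symm.toLinearMap ∘ₗ (crt (res E le_top σ) a) ∘ₗ (φ U).toLinearMap)
    (by
      intro U V h s
      refine phi_induction φ U (C := fun s => ((ψ V).symm.toLinearMap ∘ₗ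
        (crt (res E le_top σ) a) ∘ₗ (φ V).toLinearMap) (res L h s) =
        res L' h (((ψ U).symm.toLinearMap ∘ₗ (crt (res E le_top σ) a) ∘ₗ
          (φ U).toLinearMap) s)) ?_ ?_ ?_ ?_ s
      · simp only [map_zero]
      · intro x y hx hy
        rw [map_add, map_add, hx, hy, map_add, map_add]
      · intro r x hx
        rw [res_smul, map_smul, map_smul, hx, res_smul]
      · intro e
        rw [hφ U V h e]
        simp only [LinearMap.comp_apply, LinearEquiv.coe_coe, LinearEquiv.apply_symm_apply]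
        rw [crt_ιMulti, crt_ιMulti, hψ U V h]
        congr 2
        funext j
        refine Fin.cases ?_ (fun j => ?_) j
        · rw [Fin.cons_zero, Fin.cons_zero, res_res]
        · rw [Fin.cons_succ, Fin.cons_succ])
  refine ⟨g, fun U s => ?_⟩
  rw [hg U s]
  simp

theorem wedge_comp {a : ℕ} {E L₂ L₁ L₀ : X.Modules} (σ : Sec E (⊤ : X.Opens)) (φ₀ : Phi a E L₀)
    (φ₁ : Phi (a + 1) E L₁) (φ₂ : Phi (a + 2) E L₂) {d₀ : L₀ ⟶ L₁} (hd₀ : IsWedge σ φ₀ φ₁ d₀)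
    {d₁ : L₁ ⟶ L₂} (hd₁ : IsWedge σ φ₁ φ₂ d₁) : d₀ ≫ d₁ = 0 := by
  apply hom_ext_of_locally
  intro x U hx
  obtain ⟨_, ⟨W, rfl⟩, hxW, hWU⟩ := Opens.isBasis_iff_nbhd.mp (affineBasis X) hx
  refine ⟨W.1, hWU, hxW, fun s => ?_⟩
  apply (φ₂ W).injective
  rw [appS_comp, hd₁ W, hd₀ W, crt_crt_self, appS_zero, map_zero]

/-- Local exactness of the algebraic wedge complex. -/
def LocWEx (n : ℕ) {E : X.Modules} (σ : Sec E (⊤ : X.Opens)) : Prop :=
  ∀ (x : X) (U : X.Opens), x ∈ U → ∃ W : X.affineOpens, W.1 ≤ U ∧ x ∈ W.1 ∧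
    WedgeEx (A := Γ(X, W.1)) n (res E le_top σ : Sec E W.1)

theorem exact_of_locWEx {n a : ℕ} {E L₂ L₁ L₀ : X.Modules} {σ : Sec E (⊤ : X.Opens)} (hσ : LocWEx n σ)
    (ha : a + 1 < n) (φ₀ : Phi a E L₀)
    (φ₁ : Phi (a + 1) E L₁) (φ₂ : Phi (a + 2) E L₂) {d₀ : L₀ ⟶ L₁} (hd₀ : IsWedge σ φ₀ φ₁ d₀)
    {d₁ : L₁ ⟶ L₂} (hd₁ : IsWedge σ φ₁ φ₂ d₁) (w : d₀ ≫ d₁ = 0) : (ShortComplex.mk d₀ d₁ w).Exact := by
  apply exact_of_locally
  intro U s hs x hx
  obtain ⟨W, hWU, hxW, hW⟩ := hσ x U hx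
  have h1 : crt (res E le_top σ) (a + 1) (φ₁ W (res L₁ hWU s)) = 0 := by
    rw [← hd₁ W, appS_res]
    have h2 : appS d₁ U s = 0 := hs
    rw [h2, map_zero, map_zero]
  obtain ⟨z, hz⟩ := hW.2 a _ ha h1
  refine ⟨W.1, hWU, hxW, (φ₀ W).symm z, ?_⟩
  change appS d₀ W.1 ((φ₀ W).symm z) = res L₁ hWU s
  apply (φ₁ W).injective
  rw [hd₀ W, LinearEquiv.apply_symm_apply]
  exact hz

theorem mono_of_locWEx {n : ℕ} (hn : 0 < n) {E L₁ L₀ : X.Modules} {σ : Sec E (⊤ : X.Opens)} (hσ : LocWEx n σ)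
    (φ₀ : Phi 0 E L₀) (φ₁ : Phi (0 + 1) E L₁) {d₀ : L₀ ⟶ L₁} (hd₀ : IsWedge σ φ₀ φ₁ d₀) : Mono d₀ := by
  apply mono_of_locally_injective
  intro x U hx
  obtain ⟨W, hWU, hxW, hW⟩ := hσ x U hx
  refine ⟨W.1, hWU, hxW, fun s hs => ?_⟩
  apply (φ₀ W).injective
  rw [map_zero]
  apply hW.1 _ hn
  rw [← hd₀ W, hs, map_zero]

end Groth.Agent.Vancyc.H326.WedgeSheaf
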