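import Groth.Agent.Vancyc.H326.LocReg
import Groth.Agent.Vancyc.H326.WedgeSheaf
import Groth.Agent.Vancyc.H326.SecIdeal
import Groth.Agent.Vancyc.H326.ChiLam
import Groth.Agent.Krr.H487.LocBasisPull

/-!
# Local exactness of the two Koszul complexes at Cohen–Macaulay points

* `locWEx`: the wedge complex of a section `σ` of `E` (rank `r`) is locally exact if at every point the coordinate
  ideal `secIdeal σ x` is the unit ideal, or `O_{X,x}` is Cohen–Macaulay of dimension `≥ r` and
  `O_{X,x} / secIdeal σ x` has dimension `≤ 0`;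
* `locEx`: the same for the contraction complex of `t : G ⟶ O_X` and `zeroIdeal t x`.
-/

set_option autoImplicit false

universe u

open CategoryTheory CategoryTheory.Limits AlgebraicGeometry Opposite TopologicalSpace
open Groth.Agent.Sga67.Sec Groth.Agent.Sga67.LocBasis Groth.Agent.Sga67.LocBasisStalk
open Groth.Agent.Vancyc.H326.Star Groth.Agent.Vancyc.H326.WedgeSheaf Groth.Agent.Vancyc.H326.SecIdeal
  Groth.Agent.Vancyc.H326.ChiLam Groth.Agent.Vancyc.H326.LocReg
open Groth.Agent.Krr.H502.KosExt Groth.Agent.Krr.H502.KosSheaf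

namespace Groth.Agent.Vancyc.H326.LocExact

variable {X : Scheme.{u}}

/-- An ideal of `O_{X,x}` is good for rank `r`: unit ideal, or CM of dimension `≥ r` and quotient of dimension `≤ 0`. -/
def Good (r : ℕ) (x : X) (I : Ideal (X.presheaf.stalk x)) : Prop :=
  I = ⊤ ∨ (LocCoh.IsCohenMacaulayLocalRing (X.presheaf.stalk x) ∧
    (r : WithBot ℕ∞) ≤ ringKrullDim (X.presheaf.stalk x) ∧ ringKrullDim (X.presheaf.stalk x ⧸ I) ≤ 0)

/-- The two cases for a tuple of functions. -/
theorem exists_basicOpen [IsLocallyNoetherian X] {r : ℕ} {W : X.Opens} (hW : IsAffineOpen W) {x : X} (hx : x ∈ W)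
    (a : Fin r → Γ(X, W)) {I : Ideal (X.presheaf.stalk x)}
    (hI : I = Ideal.span (Set.range fun i => gerO x hx (a i))) (hg : Good r x I) (U : X.Opens) (hxU : x ∈ U) :
    ∃ g : Γ(X, W), x ∈ X.basicOpen g ∧ X.basicOpen g ≤ U ∧
      ((∃ i, IsUnit (resO X (X.basicOpen_le g) (a i))) ∨
        RingTheory.Sequence.IsWeaklyRegular Γ(X, X.basicOpen g)
          (List.ofFn fun i => resO X (X.basicOpen_le g) (a i))) := by
  have key : (∃ i, IsUnit (gerO x hx (a i))) → ∃ g : Γ(X, W), x ∈ X.basicOpen g ∧ X.basicOpen g ≤ U ∧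
      ((∃ i, IsUnit (resO X (X.basicOpen_le g) (a i))) ∨
        RingTheory.Sequence.IsWeaklyRegular Γ(X, X.basicOpen g)
          (List.ofFn fun i => resO X (X.basicOpen_le g) (a i))) := by
    rintro ⟨i, hi⟩
    obtain ⟨g₀, hg₀, hxg₀⟩ := hW.exists_basicOpen_le (V := U) ⟨x, hxU⟩ hx
    have h1 : X.basicOpen (a i * g₀) ≤ X.basicOpen (a i) := by
      rw [Scheme.basicOpen_mul]
      exact inf_le_left
    refine ⟨a i * g₀, ?_, ?_, Or.inl ⟨i, ?_⟩⟩
    · rw [Scheme.basicOpen_mul]
      exact ⟨(X.mem_basicOpen (a i) x hx).mpr hi, hxg₀⟩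
    · rw [Scheme.basicOpen_mul]
      exact inf_le_right.trans hg₀
    · have h2 : IsUnit (resO X (X.basicOpen_le (a i)) (a i)) := RingedSpace.isUnit_res_basicOpen _ _
      have h3 := h2.map (resO X h1)
      rw [resO_resO] at h3
      exact h3
  by_cases hu : ∃ i, IsUnit (gerO x hx (a i))
  · exact key hu
  · push Not at hu
    have hm : ∀ i, gerO x hx (a i) ∈ IsLocalRing.maximalIdeal (X.presheaf.stalk x) := fun i => by
      rw [IsLocalRing.mem_maximalIdeal, mem_nonunits_iff]
      exact hu i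
    have hI' : I ≤ IsLocalRing.maximalIdeal (X.presheaf.stalk x) := by
      rw [hI, Ideal.span_le]
      rintro _ ⟨i, rfl⟩
      exact hm i
    rcases hg with h | ⟨hCM, hdim, hq⟩
    · rw [h] at hI'
      exact absurd (top_le_iff.mp hI') (IsLocalRing.maximalIdeal.isMaximal _).ne_top
    · have hlist : Ideal.ofList (List.ofFn fun i => gerO x hx (a i)) = I := by
        rw [hI, Ideal.ofList]
        congr 1
        ext y
        simp [List.mem_ofFn]
      have h1 : RingTheory.Sequence.IsWeaklyRegular (X.presheaf.stalk x)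
          (List.ofFn fun i => X.presheaf.germ W x hx (a i)) := by
        refine isWeaklyRegular_of_cm (X.presheaf.stalk x) (List.ofFn fun i => gerO x hx (a i)) ?_ ?_ ?_
        · intro y hy
          rw [List.mem_ofFn] at hy
          obtain ⟨i, rfl⟩ := hy
          exact hm i
        · rw [List.length_ofFn]
          exact hdim
        · rw [hlist]
          exact hq
      obtain ⟨g, hxg, hgU, hreg⟩ := exists_basicOpen_isWeaklyRegular hW hx a h1 U hxU
      exact ⟨g, hxg, hgU, Or.inr hreg⟩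

/-- Affine neighbourhoods with a basis of `E`. -/
theorem exists_affine_basis {r : ℕ} {E : X.Modules} (hE : FlatMod.IsFinLocFreeOfRank r E) (x : X) :
    ∃ (W : X.affineOpens) (b : Fin r → Sec E W.1), x ∈ W.1 ∧ IsLocBasis b := by
  obtain ⟨V, hxV, hn⟩ := hE x
  obtain ⟨b, hb⟩ := nonempty_restrict_iso_iff.mp hn
  obtain ⟨_, ⟨W, rfl⟩, hxW, hW⟩ := Opens.isBasis_iff_nbhd.mp (affineBasis X) hxV
  exact ⟨W, _, hxW, hb.restrict hW⟩

theorem coord_sum {A : Type*} {M : Type*} [CommRing A] [AddCommGroup M] [Module A M] {r : ℕ}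
    (β : Module.Basis (Fin r) A M) (c : Fin r → A) (i : Fin r) : β.coord i (∑ j, c j • β j) = c i := by
  rw [Module.Basis.coord_apply]
  exact congrFun (β.repr_sum_self c) i

theorem coord_res {r : ℕ} {E : X.Modules} {W : X.Opens} {b : Fin r → Sec E W} (hb : IsLocBasis b)
    {V : X.Opens} (h : V ≤ W) (s : Sec E W) (i : Fin r) :
    (hb.basis h).coord i (res E h s) = resO X h ((hb.basis le_rfl).coord i s) := by
  have h1 : s = ∑ j, (hb.basis le_rfl).coord j s • b j := by
    conv_lhs => rw [← (hb.basis le_rfl).sum_repr s]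
    refine Finset.sum_congr rfl fun j _ => ?_
    rw [IsLocBasis.basis_apply, res_self]
    rfl
  have h2 : res E h s = ∑ j, resO X h ((hb.basis le_rfl).coord j s) • hb.basis h j := by
    conv_lhs => rw [h1, map_sum]
    refine Finset.sum_congr rfl fun j _ => ?_
    rw [res_smul, IsLocBasis.basis_apply]
  rw [h2]
  exact coord_sum (hb.basis h) _ i

theorem secIdeal_eq {r : ℕ} {E : X.Modules} (σ : Sec E (⊤ : X.Opens)) {W : X.Opens} {b : Fin r → Sec E W}
    (hb : IsLocBasis b) {x : X} (hx : x ∈ W) :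
    secIdeal σ x =
      Ideal.span (Set.range fun i => gerO x hx ((hb.basis le_rfl).coord i (res E le_top σ))) := by
  obtain ⟨β, hβ⟩ := Groth.Agent.Krr.H487.LocBasisPull.exists_stalkBasis hb x hx
  rw [secIdeal_eq_span σ x β]
  congr 2
  funext i
  have h1 : ger E x (show x ∈ (⊤ : X.Opens) from trivial) σ =
      ∑ j, gerO x hx ((hb.basis le_rfl).coord j (res E le_top σ)) • β j := by
    rw [← ger_res E (le_top : W ≤ ⊤) x hx σ]
    have h2 : res E le_top σ = comb b le_rfl (fun j => (hb.basis le_rfl).coord j (res E le_top σ)) := by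
      rw [comb_apply]
      conv_lhs => rw [← (hb.basis le_rfl).sum_repr (res E le_top σ)]
      refine Finset.sum_congr rfl fun j _ => ?_
      rw [IsLocBasis.basis_apply]
      rfl
    conv_lhs => rw [h2, ger_comb]
    refine Finset.sum_congr rfl fun j _ => ?_
    rw [hβ]
  change β.coord i (ger E x _ σ) = _
  rw [h1]
  exact coord_sum β _ i

/-- Local exactness of the wedge complex. -/
theorem locWEx [IsLocallyNoetherian X] {r : ℕ} {E : X.Modules} (hE : FlatMod.IsFinLocFreeOfRank r E)
    (σ : Sec E (⊤ : X.Opens)) (H : ∀ x, Good r x (secIdeal σ x)) : LocWEx r σ := by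
  intro x U hxU
  obtain ⟨W, b, hxW, hb⟩ := exists_affine_basis hE x
  obtain ⟨g, hxg, hgU, h⟩ := exists_basicOpen W.2 hxW
    (fun i => (hb.basis le_rfl).coord i (res E le_top σ)) (secIdeal_eq σ hb hxW) (H x) U hxU
  refine ⟨⟨X.basicOpen g, W.2.basicOpen g⟩, hgU, hxg, ?_⟩
  have h1 : (res E le_top σ : Sec E (X.basicOpen g)) = res E (X.basicOpen_le g) (res E le_top σ) := by
    rw [res_res]
  rcases h with ⟨i, hi⟩ | h
  · refine wedgeEx_of_isUnit (hb.basis (X.basicOpen_le g)) _ ((hb.basis (X.basicOpen_le g)).coord i) ?_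
    change IsUnit ((hb.basis (X.basicOpen_le g)).coord i (res E le_top σ))
    rw [h1, coord_res]
    exact hi
  · refine wedgeEx_of_isWeaklyRegular (hb.basis (X.basicOpen_le g)) _ ?_
    have h2 : (fun i => (hb.basis (X.basicOpen_le g)).coord i (res E le_top σ)) =
        fun i => resO X (X.basicOpen_le g) ((hb.basis le_rfl).coord i (res E le_top σ)) := by
      funext i
      rw [h1, coord_res]
    change RingTheory.Sequence.IsWeaklyRegular Γ(X, X.basicOpen g)
      (List.ofFn (fun i => (hb.basis (X.basicOpen_le g)).coord i (res E le_top σ)))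
    rw [h2]
    exact h

theorem zeroIdeal_eq {r : ℕ} {G : X.Modules} (t : G ⟶ Coh.structureModule X) {W : X.Opens} {b : Fin r → Sec G W}
    (hb : IsLocBasis b) {x : X} (hx : x ∈ W) :
    zeroIdeal t x = Ideal.span (Set.range fun i => gerO x hx (lin t W (b i))) := by
  apply le_antisymm
  · rw [zeroIdeal, Ideal.span_le]
    rintro _ ⟨V, hxV, s, rfl⟩
    obtain ⟨a, ha⟩ := (hb (V ⊓ W) inf_le_right).2 (res G inf_le_left s)
    have hx' : x ∈ V ⊓ W := ⟨hxV, hx⟩
    have h1 : gerO x hxV (lin t V s) = ∑ i, gerO x hx' (a i) * gerO x hx (lin t W (b i)) := by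
      rw [← gerO_res (inf_le_left : V ⊓ W ≤ V) x hx', ← lin_res, ← ha, comb_apply, map_sum]
      have h2 : gerO x hx' (∑ i, lin t (V ⊓ W) (a i • res G inf_le_right (b i))) =
          ∑ i, gerO x hx' (lin t (V ⊓ W) (a i • res G inf_le_right (b i))) :=
        map_sum (X.presheaf.germ (V ⊓ W) x hx').hom _ _
      rw [h2]
      refine Finset.sum_congr rfl fun i _ => ?_
      rw [map_smul, smul_eq_mul, lin_res, ← gerO_res (inf_le_right : V ⊓ W ≤ W) x hx']
      exact map_mul (X.presheaf.germ (V ⊓ W) x hx').hom _ _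
    change gerO x hxV (lin t V s) ∈ _
    rw [h1]
    exact Ideal.sum_mem _ fun i _ => Ideal.mul_mem_left _ _ (Ideal.subset_span ⟨i, rfl⟩)
  · rw [Ideal.span_le]
    rintro _ ⟨i, rfl⟩
    exact Ideal.subset_span ⟨W, hx, b i, rfl⟩

/-- Local exactness of the contraction complex. -/
theorem locEx [IsLocallyNoetherian X] {r : ℕ} {G : X.Modules} (hG : FlatMod.IsFinLocFreeOfRank r G)
    (t : G ⟶ Coh.structureModule X) (H : ∀ x, Good r x (zeroIdeal t x)) : LocEx t := by
  intro x U hxU
  obtain ⟨W, b, hxW, hb⟩ := exists_affine_basis hG x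
  obtain ⟨g, hxg, hgU, h⟩ := exists_basicOpen W.2 hxW (fun i => lin t W.1 (b i)) (zeroIdeal_eq t hb hxW) (H x) U hxU
  refine ⟨⟨X.basicOpen g, W.2.basicOpen g⟩, hgU, hxg, ?_⟩
  have h1 : ∀ i, lin t (X.basicOpen g) (hb.basis (X.basicOpen_le g) i) =
      resO X (X.basicOpen_le g) (lin t W.1 (b i)) := fun i => by
    rw [IsLocBasis.basis_apply, lin_res]
  rcases h with ⟨i, hi⟩ | h
  · refine kosEx_of_isUnit _ (hb.basis (X.basicOpen_le g) i) ?_
    change IsUnit (lin t (X.basicOpen g) (hb.basis (X.basicOpen_le g) i))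
    rw [h1]
    exact hi
  · refine kosEx_of_isWeaklyRegular (hb.basis (X.basicOpen_le g)) _ ?_
    change RingTheory.Sequence.IsWeaklyRegular Γ(X, X.basicOpen g)
      (List.ofFn (fun i => lin t (X.basicOpen g) (hb.basis (X.basicOpen_le g) i)))
    simp only [h1]
    exact h

end Groth.Agent.Vancyc.H326.LocExact
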