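import Groth.Agent.Vancyc.H326.ChiLam
import Groth.Agent.CycB.CohProp
import Groth.Agent.PerfA.CohSerre
import Groth.Agent.S1524

/-!
# Euler characteristic of the cokernel at the end of a finite exact sequence

`0 → L_0 → L_1 → … → L_r → C → 0` exact implies `χ(C) = Σ_{i ≤ r} (-1)^(r-i) χ(L_i)`; the dual form for
`… → L_1 → L_0 → C → 0`.
-/

set_option autoImplicit false

universe u v

open CategoryTheory CategoryTheory.Limits AlgebraicGeometry

namespace Groth.Agent.Vancyc.H326.AltSum

section Abelian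

variable {C : Type u} [Category.{v} C] [Abelian C]

/-- `0 → coker a → Z → coker b → 0` for `X --a--> Y --b--> Z` exact at `Y`. -/
theorem exists_shortExact {X Y Z : C} (a : X ⟶ Y) (b : Y ⟶ Z) (w : a ≫ b = 0)
    (h : (ShortComplex.mk a b w).Exact) :
    ∃ (i : cokernel a ⟶ Z) (w' : i ≫ cokernel.π b = 0), (ShortComplex.mk i (cokernel.π b) w').ShortExact := by
  have hm : Mono (cokernel.desc a b w) := (ShortComplex.exact_iff_mono_cokernel_desc _).mp h
  have hπ : cokernel.π a ≫ cokernel.desc a b w = b := cokernel.π_desc a b w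
  have w' : cokernel.desc a b w ≫ cokernel.π b = 0 := by
    rw [← cancel_epi (cokernel.π a), ← Category.assoc, hπ, cokernel.condition, comp_zero]
  refine ⟨cokernel.desc a b w, w', ?_⟩
  have hex : (ShortComplex.mk (cokernel.desc a b w) (cokernel.π b) w').Exact := by
    apply ShortComplex.exact_of_g_is_cokernel
    refine CokernelCofork.IsColimit.ofπ _ _ (fun g hg => cokernel.desc b g ?_) (fun g hg => ?_)
      (fun g hg m hm => ?_)
    · rw [← hπ, Category.assoc, hg, comp_zero]
    · exact cokernel.π_desc b g _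
    · rw [← cancel_epi (cokernel.π b), hm, cokernel.π_desc]
  exact ShortComplex.ShortExact.mk' hex hm inferInstance

end Abelian

variable (k : Type u) [Field k] {X : Scheme.{u}} [X.Over (Spec (CommRingCat.of k))]
  [IsProper (X ↘ (Spec (CommRingCat.of k)))]

theorem euler_add {A B C : X.Modules} (i : A ⟶ B) (p : B ⟶ C) (w : i ≫ p = 0)
    (h : (ShortComplex.mk i p w).ShortExact) (hA : Coh.IsCoh A) (hB : Coh.IsCoh B) (hC : Coh.IsCoh C) :
    Curv2.euler k X B = Curv2.euler k X A + Curv2.euler k X C := by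
  have h1 := Groth.Agent.S1524.result k X (ShortComplex.mk i p w) h hA hB hC
  exact h1

/-- Cohomological form: `0 → L_0 → … → L_{r+1} → coker → 0`. -/
theorem euler_cokernel (L : ℕ → X.Modules) (hL : ∀ i, Coh.IsCoh (L i)) (d : ∀ i, L i ⟶ L (i + 1))
    (hd : ∀ i, d i ≫ d (i + 1) = 0) (hm : Mono (d 0)) : ∀ (r : ℕ)
    (_ : ∀ i, i < r → (ShortComplex.mk (d i) (d (i + 1)) (hd i)).Exact),
    Curv2.euler k X (cokernel (d r)) =
      ∑ i ∈ Finset.range (r + 2), (-1 : ℤ) ^ (r + 1 - i) * Curv2.euler k X (L i) := by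
  intro r
  induction r with
  | zero =>
    intro _
    have hs : (ShortComplex.mk (d 0) (cokernel.π (d 0)) (cokernel.condition (d 0))).ShortExact :=
      ShortComplex.ShortExact.mk' (ShortComplex.exact_cokernel (d 0)) hm inferInstance
    have h := euler_add k _ _ _ hs (hL 0) (hL 1) (CycB.CohProp.isCoh_cokernel _ (hL 0) (hL 1))
    rw [Finset.sum_range_succ, Finset.sum_range_succ, Finset.sum_range_zero]
    simp only [zero_add, Nat.sub_zero, pow_one, Nat.sub_self, pow_zero, one_mul]
    rw [h]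
    ring
  | succ r ih =>
    intro h
    have h0 := ih fun i hi => h i (by omega)
    obtain ⟨i, w', hs⟩ := exists_shortExact (d r) (d (r + 1)) (hd r) (h r (Nat.lt_succ_self r))
    have h1 := euler_add k _ _ _ hs (CycB.CohProp.isCoh_cokernel _ (hL r) (hL (r + 1))) (hL (r + 2))
      (CycB.CohProp.isCoh_cokernel _ (hL (r + 1)) (hL (r + 2)))
    rw [Finset.sum_range_succ, Nat.sub_self, pow_zero, one_mul]
    have h2 : ∑ i ∈ Finset.range (r + 1 + 1), (-1 : ℤ) ^ (r + 1 + 1 - i) * Curv2.euler k X (L i) =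
        - ∑ i ∈ Finset.range (r + 2), (-1 : ℤ) ^ (r + 1 - i) * Curv2.euler k X (L i) := by
      rw [← Finset.sum_neg_distrib]
      refine Finset.sum_congr rfl fun i hi => ?_
      have hi' : i ≤ r + 1 := by
        have := Finset.mem_range.mp hi
        omega
      obtain ⟨j, hj⟩ : ∃ j, r + 1 = i + j := ⟨r + 1 - i, by omega⟩
      have e1 : r + 1 + 1 - i = j + 1 := by omega
      have e2 : r + 1 - i = j := by omega
      rw [e1, e2, pow_succ]
      ring
    rw [h2, ← h0, h1]
    ring

/-- Homological form: `0 → L_r → … → L_1 → L_0 → coker → 0`, with `L_i = 0` for `i > r`. -/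
theorem euler_cokernel' (L : ℕ → X.Modules) (hL : ∀ i, Coh.IsCoh (L i)) (d : ∀ i, L (i + 1) ⟶ L i)
    (hd : ∀ i, d (i + 1) ≫ d i = 0)
    (h : ∀ i, (ShortComplex.mk (d (i + 1)) (d i) (hd i)).Exact) : ∀ (r j : ℕ)
    (_ : ∀ i, r + j < i → IsZero (L i)),
    Curv2.euler k X (cokernel (d j)) =
      ∑ i ∈ Finset.range (r + 1), (-1 : ℤ) ^ i * Curv2.euler k X (L (i + j)) := by
  intro r
  induction r with
  | zero =>
    intro j hj
    have h1 : d j = 0 := (hj (j + 1) (by omega)).eq_of_src _ _
    have h2 : IsIso (cokernel.π (d j)) := by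
      rw [h1]
      infer_instance
    rw [Finset.sum_range_one, pow_zero, one_mul, zero_add]
    exact (ChiLam.euler_iso k (asIso (cokernel.π (d j)))).symm
  | succ r ih =>
    intro j hj
    have h0 := ih (j + 1) fun i hi => hj i (by omega)
    obtain ⟨i, w', hs⟩ := exists_shortExact (d (j + 1)) (d j) (hd j) (h j)
    have h1 := euler_add k _ _ _ hs (CycB.CohProp.isCoh_cokernel _ (hL _) (hL _)) (hL j)
      (CycB.CohProp.isCoh_cokernel _ (hL _) (hL _))
    rw [Finset.sum_range_succ', pow_zero, one_mul, zero_add]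
    have h2 : ∑ i ∈ Finset.range (r + 1), (-1 : ℤ) ^ (i + 1) * Curv2.euler k X (L (i + 1 + j)) =
        - ∑ i ∈ Finset.range (r + 1), (-1 : ℤ) ^ i * Curv2.euler k X (L (i + (j + 1))) := by
      rw [← Finset.sum_neg_distrib]
      refine Finset.sum_congr rfl fun i _ => ?_
      rw [pow_succ, show i + 1 + j = i + (j + 1) by omega]
      ring
    rw [h2, ← h0, h1]
    ring

end Groth.Agent.Vancyc.H326.AltSum
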