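import Groth.Agent.Vancyc.H326.LocExact
import Groth.Agent.Lefpen.H705.ClosedPoint
import Mathlib.RingTheory.KrullDimension.Zero

/-!
# Isolated zeros are good
-/

set_option autoImplicit false

universe u

open CategoryTheory CategoryTheory.Limits AlgebraicGeometry Opposite TopologicalSpace
open Groth.Agent.Sga67.Sec Groth.Agent.Sga67.LocBasis Groth.Agent.Sga67.LocBasisStalk
open Groth.Agent.Vancyc.H326.SecIdeal Groth.Agent.Vancyc.H326.ChiLam Groth.Agent.Vancyc.H326.LocExact

namespace Groth.Agent.Vancyc.H326.GoodPoint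

variable {X : Scheme.{u}}

/-- If the ideals generated by the germs of the functions `a i` at all proper generizations of `x` are the unit ideal
then `O_{X,x} / (a i)` has dimension at most zero. -/
theorem ringKrullDim_quot_le {r : ℕ} {W : X.Opens} (hW : IsAffineOpen W) {x : X} (hx : x ∈ W)
    (a : Fin r → Γ(X, W))
    (h : ∀ (y : X) (hy : y ∈ W), y ⤳ x → y ≠ x → Ideal.span (Set.range fun i => gerO y hy (a i)) = ⊤) :
    ringKrullDim (X.presheaf.stalk x ⧸ Ideal.span (Set.range fun i => gerO x hx (a i))) ≤ 0 := by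
  set I := Ideal.span (Set.range fun i => gerO x hx (a i)) with hI
  suffices H : Ring.KrullDimLE 0 (X.presheaf.stalk x ⧸ I) by
    exact_mod_cast Ring.krullDimLE_iff.mp H
  rw [Ring.krullDimLE_zero_iff]
  intro 𝔮 h𝔮
  have h𝔭 : (𝔮.comap (Ideal.Quotient.mk I)).IsPrime := Ideal.comap_isPrime _ _
  set 𝔭 := 𝔮.comap (Ideal.Quotient.mk I) with h𝔭'
  have hI𝔭 : I ≤ 𝔭 := by
    intro z hz
    rw [h𝔭', Ideal.mem_comap, Ideal.Quotient.eq_zero_iff_mem.mpr hz]
    exact Ideal.zero_mem _
  suffices hm : 𝔭 = IsLocalRing.maximalIdeal (X.presheaf.stalk x) by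
    have h1 : 𝔭.IsMaximal := hm ▸ IsLocalRing.maximalIdeal.isMaximal _
    exact Ideal.isMaximal_of_isIntegral_of_isMaximal_comap' (Ideal.Quotient.mk I)
      (RingHom.isIntegral_of_surjective _ Ideal.Quotient.mk_surjective) 𝔮 h1
  by_contra hne
  let P : PrimeSpectrum (X.presheaf.stalk x) := ⟨𝔭, h𝔭⟩
  let y : X := X.fromSpecStalk x P
  have hyx : y ⤳ x := by
    have h1 : y ∈ Set.range (X.fromSpecStalk x) := ⟨P, rfl⟩
    rw [Scheme.range_fromSpecStalk] at h1
    exact h1
  have hy : y ∈ W := hyx.mem_open W.2 hx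
  have hy2 : y = hW.fromSpec (PrimeSpectrum.comap (X.presheaf.germ W x hx).hom P) := by
    change X.fromSpecStalk x P = _
    rw [← hW.fromSpecStalk_eq_fromSpecStalk hx]
    rfl
  have hyne : y ≠ x := by
    intro h1
    apply hne
    have h2 : X.fromSpecStalk x P = X.fromSpecStalk x (IsLocalRing.closedPoint _) := by
      rw [Scheme.fromSpecStalk_closedPoint]
      exact h1
    have h3 : P = IsLocalRing.closedPoint _ := (X.fromSpecStalk x).isEmbedding.injective h2
    exact congrArg PrimeSpectrum.asIdeal h3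
  have h4 := h y hy hyx hyne
  obtain ⟨i, hi⟩ : ∃ i, IsUnit (gerO y hy (a i)) := by
    by_contra hu
    push Not at hu
    have h5 : Ideal.span (Set.range fun i => gerO y hy (a i)) ≤ IsLocalRing.maximalIdeal _ := by
      rw [Ideal.span_le]
      rintro _ ⟨i, rfl⟩
      rw [SetLike.mem_coe, IsLocalRing.mem_maximalIdeal, mem_nonunits_iff]
      exact hu i
    rw [h4] at h5
    exact (IsLocalRing.maximalIdeal.isMaximal _).ne_top (top_le_iff.mp h5)
  have h6 : y ∈ X.basicOpen (a i) := (X.mem_basicOpen (a i) y hy).mpr hi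
  rw [hy2] at h6
  have h7 : PrimeSpectrum.comap (X.presheaf.germ W x hx).hom P ∈ hW.fromSpec ⁻¹ᵁ X.basicOpen (a i) := h6
  rw [hW.fromSpec_preimage_basicOpen] at h7
  apply h7
  change gerO x hx (a i) ∈ 𝔭
  exact hI𝔭 (Ideal.subset_span ⟨i, rfl⟩)

theorem good_secIdeal {k : Type u} [Field k] (p : X ⟶ Spec (CommRingCat.of k)) {r : ℕ}
    [SmoothOfRelativeDimension r p] {E : X.Modules}
    (hE : FlatMod.IsFinLocFreeOfRank r E) (σ : Sec E (⊤ : X.Opens)) (F : Finset X)
    (hF : ∀ x ∈ F, IsClosed ({x} : Set X)) (h1 : ∀ x, x ∉ F → secIdeal σ x = ⊤) (x : X) (hx : x ∈ F) :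
    Good r x (secIdeal σ x) := by
  have hs : Smooth p := SmoothOfRelativeDimension.smooth r p
  have hreg : IsRegularLocalRing (X.presheaf.stalk x) :=
    Groth.Agent.Lefpen.H705.ClosedPoint.isRegularLocalRing_stalk p x
  refine Or.inr ⟨Groth.Agent.Ega4A.RegCM.isCohenMacaulayLocalRing_of_isRegularLocalRing _, ?_, ?_⟩
  · rw [Groth.Agent.Lefpen.H705.ClosedPoint.ringKrullDim_stalk p r x (hF x hx)]
  · obtain ⟨W, b, hxW, hb⟩ := exists_affine_basis hE x
    rw [secIdeal_eq σ hb hxW]
    refine ringKrullDim_quot_le W.2 hxW _ fun y hy hyx hne => ?_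
    rw [← secIdeal_eq σ hb hy]
    apply h1
    intro hyF
    apply hne
    have h2 : x ∈ closure ({y} : Set X) := specializes_iff_mem_closure.mp hyx
    rw [(hF y hyF).closure_eq] at h2
    exact h2.symm

end Groth.Agent.Vancyc.H326.GoodPoint
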