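import Groth.Agent.Vancyc.H326.WedgeEuler
import Groth.Agent.Vancyc.H326.GoodPoint
import Groth.Agent.Krr.H483.ExtTwist
import Groth.Agent.CohqB.FinAmple

/-!
# The coherent Milnor identity from its ingredients

`coh_identity`: the formula `c(Ω_X) = c(Ω_S) c(Ω_F) - (-1)^n Σ dim O_x / secIdeal σ x` from
* the twist formula `χ(G ⊗ f^*M) = χ(G) + deg M · e(G)`,
* the values `e(Λ^{p+1} Ω_X) = b_{p+1} + b_p` (the generic fibre),
* a section `σ` of `Ω_X ⊗ f^*T`, `T ⊗ Ω_S ≅ O_S`.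
-/

set_option autoImplicit false

universe u

open CategoryTheory CategoryTheory.Limits AlgebraicGeometry Opposite TopologicalSpace
open Groth.Agent.Sga67.Sec Groth.Agent.Sga67.LocBasis
open Groth.Agent.Vancyc.H326.ChiLam Groth.Agent.Vancyc.H326.SecIdeal Groth.Agent.Vancyc.H326.WedgeEuler
  Groth.Agent.Vancyc.H326.GoodPoint

namespace Groth.Agent.Vancyc.H326.CohId

section Sums

theorem sum_mul (e b : ℕ → ℤ) (he0 : e 0 = b 0) (he : ∀ p, e (p + 1) = b (p + 1) + b p) (N : ℕ) :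
    ∑ i ∈ Finset.range (N + 1), (-1 : ℤ) ^ i * (i * e i) =
      (-1) ^ N * N * b N - ∑ p ∈ Finset.range N, (-1 : ℤ) ^ p * b p := by
  induction N with
  | zero => simp
  | succ N ih =>
    rw [Finset.sum_range_succ, ih, Finset.sum_range_succ (fun p => (-1 : ℤ) ^ p * b p), he]
    push_cast
    ring

theorem sum_id (n : ℕ) (a e b : ℕ → ℤ) (D : ℤ) (he0 : e 0 = b 0) (he : ∀ p, e (p + 1) = b (p + 1) + b p)
    (hb : b (n + 1) = 0) :
    ∑ i ∈ Finset.range (n + 2), (-1 : ℤ) ^ (n + 1 - i) * (a i + i * D * e i) =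
      (-1) ^ (n + 1) * ∑ i ∈ Finset.range (n + 2), (-1 : ℤ) ^ i * a i +
        D * ((-1) ^ n * ∑ p ∈ Finset.range (n + 1), (-1 : ℤ) ^ p * b p) := by
  have h1 := sum_mul e b he0 he (n + 1)
  rw [hb, mul_zero, zero_sub] at h1
  have h2 : ∑ i ∈ Finset.range (n + 2), (-1 : ℤ) ^ (n + 1 - i) * (a i + i * D * e i) =
      (-1) ^ (n + 1) * ∑ i ∈ Finset.range (n + 2), (-1 : ℤ) ^ i * a i +
        (-1) ^ (n + 1) * D * ∑ i ∈ Finset.range (n + 1 + 1), (-1 : ℤ) ^ i * (i * e i) := by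
    rw [Finset.mul_sum, Finset.mul_sum, ← Finset.sum_add_distrib]
    refine Finset.sum_congr rfl fun i hi => ?_
    have hi' : i ≤ n + 1 := by
      have := Finset.mem_range.mp hi
      omega
    have h3 : (-1 : ℤ) ^ (n + 1 - i) = (-1) ^ (n + 1) * (-1) ^ i := by
      obtain ⟨j, hj⟩ : ∃ j, n + 1 = i + j := ⟨n + 1 - i, by omega⟩
      rw [hj, Nat.add_sub_cancel_left, pow_add, mul_comm ((-1 : ℤ) ^ i), mul_assoc, ← pow_add, ← two_mul,
        pow_mul, neg_one_sq, one_pow, mul_one]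
    rw [h3]
    ring
  rw [h2, h1]
  ring

end Sums

section Degree

variable (k : Type u) [Field k] {S : Scheme.{u}} [S.Over (Spec (CommRingCat.of k))]
  [IsProper (S ↘ Spec (CommRingCat.of k))] [IsIntegral S]

theorem rk_eq_one {N : S.Modules} (hN : FlatMod.IsFinLocFreeOfRank 1 N) : Groth.Agent.VarietyA.DegRank.rk N = 1 := by
  obtain ⟨U, hU, b, hb⟩ := Groth.Agent.Krr.H495.Rank.isFinLocFreeOfRank_iff'.mp hN (genericPoint S)
  obtain ⟨β, -⟩ := Groth.Agent.Krr.H487.LocBasisPull.exists_stalkBasis hb (genericPoint S) hU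
  rw [Groth.Agent.VarietyA.DegRank.rk, Module.finrank_eq_card_basis β, Fintype.card_fin]

theorem deg_tensor (hdim : topologicalKrullDim S ≤ 1) {M N : S.Modules} (hM : FlatMod.IsFinLocFreeOfRank 1 M)
    (hN : FlatMod.IsFinLocFreeOfRank 1 N) :
    Curv2.deg k S (CohB1.tensorMod M N) 1 = Curv2.deg k S M 1 + Curv2.deg k S N 1 := by
  have h := Groth.Agent.VarietyA.DegRank.euler_tensor_curve k hdim 1 M hM N
    (Groth.Agent.PerfA.CohSerre.isCoh_of_isFinLocFree (isFinLocFree_of_rank hN))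
  rw [rk_eq_one hN] at h
  rw [Curv2.deg, h, Curv2.deg, Curv2.deg]
  push_cast
  ring

theorem deg_structureModule : Curv2.deg k S (Coh.structureModule S) 1 = 0 := by
  rw [Curv2.deg]
  push_cast
  ring

theorem isFinLocFreeOfRank_tensorPow {X : Scheme.{u}} {T : X.Modules} (hT : FlatMod.IsFinLocFreeOfRank 1 T) (i : ℕ) :
    FlatMod.IsFinLocFreeOfRank 1 (CohB1.tensorPow T i) :=
  Groth.Agent.Ega2.QCohLocal.isFinLocFreeOfRank_one_iff.mpr
    (Groth.Agent.Fdesc.LocGen.isInvertible_tensorPow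
      (Groth.Agent.Ega2.QCohLocal.isFinLocFreeOfRank_one_iff.mp hT) i)

theorem deg_tensorPow (hdim : topologicalKrullDim S ≤ 1) {T : S.Modules} (hT : FlatMod.IsFinLocFreeOfRank 1 T)
    (i : ℕ) : Curv2.deg k S (CohB1.tensorPow T i) 1 = i * Curv2.deg k S T 1 := by
  induction i with
  | zero =>
    rw [Nat.cast_zero, zero_mul]
    exact deg_structureModule k
  | succ i ih =>
    have h := deg_tensor k hdim (isFinLocFreeOfRank_tensorPow hT i) hT
    rw [ih] at h
    refine h.trans ?_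
    push_cast
    ring

theorem deg_eq_neg (hdim : topologicalKrullDim S ≤ 1) {T N : S.Modules} (hT : FlatMod.IsFinLocFreeOfRank 1 T)
    (hN : FlatMod.IsFinLocFreeOfRank 1 N) (e : CohB1.tensorMod T N ≅ Coh.structureModule S) :
    Curv2.deg k S T 1 = - Curv2.deg k S N 1 := by
  have h := deg_tensor k hdim hT hN
  have h1 : Curv2.deg k S (CohB1.tensorMod T N) 1 = 0 := by
    rw [← deg_structureModule k (S := S), Curv2.deg, Curv2.deg, euler_iso k e]
  rw [h1] at h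
  linarith

/-- `c(N) = -deg N` for a line bundle `N` on a curve. -/
theorem c_one {N : S.Modules} (hN : FlatMod.IsFinLocFreeOfRank 1 N) : c k 1 N = - Curv2.deg k S N 1 := by
  have hN' := isFinLocFree_of_rank hN
  obtain ⟨e0⟩ := nonempty_iso_extPow hN' (Iso.refl N) (Groth.Agent.Sga67.TensorOps.isExtPow_zero N)
  obtain ⟨e1⟩ := nonempty_iso_extPow hN' (Iso.refl N) (Groth.Agent.Sga67.TensorOps.isExtPow_one N)
  rw [c, Finset.sum_range_succ, Finset.sum_range_one, euler_iso k e0, euler_iso k e1, Curv2.deg]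
  push_cast
  ring

end Degree

section Main

variable (k : Type u) [Field k] {X S : Scheme.{u}} [X.Over (Spec (CommRingCat.of k))]
  [S.Over (Spec (CommRingCat.of k))] [IsProper (X ↘ Spec (CommRingCat.of k))]
  [IsProper (S ↘ Spec (CommRingCat.of k))] [IsIntegral S]

/-- The exterior powers of `E ⊗ f^*T`. -/
theorem nonempty_extPow_twist (f : X ⟶ S) {E : X.Modules} (hE : FlatMod.IsFinLocFree E) {T : S.Modules}
    (hT : FlatMod.IsFinLocFreeOfRank 1 T)
    (hET : FlatMod.IsFinLocFree (CohB1.tensorMod E ((Scheme.Modules.pullback f).obj T))) (i : ℕ) :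
    Nonempty (extPow (CohB1.tensorMod E ((Scheme.Modules.pullback f).obj T)) i ≅
      CohB1.tensorMod (extPow E i) ((Scheme.Modules.pullback f).obj (CohB1.tensorPow T i))) := by
  have hTi := Groth.Agent.Ega2.QCohLocal.isFinLocFreeOfRank_one_iff.mp hT
  have hfT : FlatMod.IsFinLocFreeOfRank 1 ((Scheme.Modules.pullback f).obj T) :=
    Groth.Agent.Ega2.QCohLocal.isFinLocFreeOfRank_one_iff.mpr
      (Groth.Agent.Fdesc.LocGen.isInvertible_pullback f hTi)
  obtain ⟨e1⟩ := Groth.Agent.Krr.H483.ExtTwist.nonempty_iso (i := i) hE hfT (isExtPow_extPow hE i)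
    (isExtPow_extPow hET i)
  obtain ⟨e2⟩ := Groth.Agent.CohqB.FinAmple.nonempty_pullback_tensorPow f hTi i
  exact ⟨e1.symm ≪≫ Groth.Agent.Ega2.Tens.mapTIso (Iso.refl _) e2.symm⟩

/-- The coherent Milnor identity from its ingredients. -/
theorem coh_identity (hS : topologicalKrullDim S ≤ 1) (f : X ⟶ S) (n : ℕ)
    [SmoothOfRelativeDimension (n + 1) (X ↘ Spec (CommRingCat.of k))]
    {ΩX : X.Modules} (hΩX : FlatMod.IsFinLocFreeOfRank (n + 1) ΩX)
    {T ΩS : S.Modules} (hT : FlatMod.IsFinLocFreeOfRank 1 T) (hΩS : FlatMod.IsFinLocFreeOfRank 1 ΩS)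
    (eT : CohB1.tensorMod T ΩS ≅ Coh.structureModule S)
    (σ : Sec (CohB1.tensorMod ΩX ((Scheme.Modules.pullback f).obj T)) (⊤ : X.Opens))
    (F : Finset X) (hF : ∀ x ∈ F, IsClosed ({x} : Set X)) (h1 : ∀ x, x ∉ F → secIdeal σ x = ⊤)
    (eF : X.Modules → ℤ)
    (hA5 : ∀ (G : X.Modules), Coh.IsCoh G → ∀ (M : S.Modules), FlatMod.IsFinLocFreeOfRank 1 M →
      Curv2.euler k X (CohB1.tensorMod G ((Scheme.Modules.pullback f).obj M)) =
        Curv2.euler k X G + Curv2.deg k S M 1 * eF G)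
    (b : ℕ → ℤ) (hb0 : eF (extPow ΩX 0) = b 0) (hb : ∀ p, eF (extPow ΩX (p + 1)) = b (p + 1) + b p)
    (hbn : b (n + 1) = 0) :
    c k (n + 1) ΩX = c k 1 ΩS * ∑ p ∈ Finset.range (n + 1), (-1 : ℤ) ^ p * b p -
      (-1) ^ n * ∑ x ∈ F, ((letI := VanCyc.stalkAlgebra (X ↘ Spec (CommRingCat.of k)) x
        Module.finrank k (X.presheaf.stalk x ⧸ secIdeal σ x) : ℕ) : ℤ) := by
  have hfT : FlatMod.IsFinLocFreeOfRank 1 ((Scheme.Modules.pullback f).obj T) :=
    Groth.Agent.Ega2.QCohLocal.isFinLocFreeOfRank_one_iff.mpr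
      (Groth.Agent.Fdesc.LocGen.isInvertible_pullback f
        (Groth.Agent.Ega2.QCohLocal.isFinLocFreeOfRank_one_iff.mp hT))
  have hΩX' := isFinLocFree_of_rank hΩX
  have hE : FlatMod.IsFinLocFreeOfRank (n + 1)
      (CohB1.tensorMod ΩX ((Scheme.Modules.pullback f).obj T)) := by
    rw [Groth.Agent.Krr.H495.Rank.isFinLocFreeOfRank_iff]
    refine ⟨isFinLocFree_tensorMod hΩX' (isFinLocFree_of_rank hfT), fun x => ?_⟩
    rw [Groth.Agent.Krr.H495.Rank.rk_tensor hΩX' (isFinLocFree_of_rank hfT),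
      (Groth.Agent.Krr.H495.Rank.isFinLocFreeOfRank_iff.mp hΩX).2 x,
      (Groth.Agent.Krr.H495.Rank.isFinLocFreeOfRank_iff.mp hfT).2 x, mul_one]
  have hW := wedge_euler k hE σ F hF h1
    (fun x hx => good_secIdeal (X ↘ Spec (CommRingCat.of k)) hE σ F hF h1 x hx)
  rw [← hW]
  have h2 : ∀ i, Curv2.euler k X (extPow (CohB1.tensorMod ΩX ((Scheme.Modules.pullback f).obj T)) i) =
      Curv2.euler k X (extPow ΩX i) + i * Curv2.deg k S T 1 * eF (extPow ΩX i) := by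
    intro i
    obtain ⟨e⟩ := nonempty_extPow_twist f hΩX' hT (isFinLocFree_of_rank hE) i
    rw [euler_iso k e, hA5 _ (Groth.Agent.PerfA.CohSerre.isCoh_of_isFinLocFree (isFinLocFree_extPow hΩX' i))
      _ (isFinLocFreeOfRank_tensorPow hT i), deg_tensorPow k hS hT]
  simp only [h2]
  rw [sum_id n (fun i => Curv2.euler k X (extPow ΩX i)) (fun i => eF (extPow ΩX i)) b _ hb0 hb hbn,
    c_one k hΩS, ← deg_eq_neg k hS hT hΩS eT]
  change c k (n + 1) ΩX = _ - (-1) ^ n * ((-1) ^ (n + 1) * c k (n + 1) ΩX + _)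
  have h3 : (-1 : ℤ) ^ n * (-1) ^ n = 1 := by
    rw [← pow_add, ← two_mul, pow_mul, neg_one_sq, one_pow]
  rw [pow_succ]
  linear_combination (c k (n + 1) ΩX * (-1) + (Curv2.deg k S T 1 *
    (∑ p ∈ Finset.range (n + 1), (-1 : ℤ) ^ p * b p))) * h3

end Main

end Groth.Agent.Vancyc.H326.CohId
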