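import Groth.Agent.Vancyc.H326.CohId
import Groth.Agent.Vancyc.H364.A4
import Groth.Agent.Vancyc.H769.EulerTwist
import Groth.Agent.Vancyc.H878.A6Main
import Groth.Agent.Vancyc.H691.GenFib
import Groth.Agent.Lefpen.H716.CIGeom
import Groth.Agent.Flat2B.SmoothGeom

/-!
# The coherent Milnor formula, from the Euler characteristics on the geometric generic fibre

`coh_formula_of`: `c(Ω_X) = c(Ω_S) c(Ω_F) - (-1)^n Σ μ(x)` for `f : X ⟶ S` with finitely many critical points, `F` the
geometric generic fibre, given the values of the Euler characteristic on the pull-backs of `Λ^i Ω_X` to `F`.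
-/

set_option autoImplicit false

universe u

open CategoryTheory CategoryTheory.Limits AlgebraicGeometry Opposite TopologicalSpace
open Groth.Agent.Sga67.Sec Groth.Agent.Sga67.LocBasis
open Groth.Agent.Vancyc.H326.ChiLam Groth.Agent.Vancyc.H326.SecIdeal
open Groth.Agent.Vancyc.H364

namespace Groth.Agent.Vancyc.H326.FormulaA

/-- The two ideals of coordinates agree. -/
theorem coordAt_eq {X : Scheme.{u}} {M : X.Modules} (s : Coh.structureModule X ⟶ M) (x : X) :
    A4.coordAt s x = secIdeal (appS s ⊤ (one X ⊤)) x := by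
  apply le_antisymm
  · rintro _ ⟨φ, rfl⟩
    exact Ideal.subset_span ⟨φ, rfl⟩
  · rw [secIdeal, Ideal.span_le]
    rintro _ ⟨φ, rfl⟩
    exact ⟨φ, rfl⟩

theorem euler_zero (k : Type u) [Field k] {X : Scheme.{u}} [X.Over (Spec (CommRingCat.of k))] {G : X.Modules}
    (hG : IsZero G) : Curv2.euler k X G = 0 :=
  Groth.Agent.VarietyA.LerayEuler.euler_eq_zero_of_isZero k _ hG

/-- The coherent formula from the Euler characteristics of the `Λ^i Ω_X` on the geometric generic fibre. -/
theorem coh_formula_of {k : Type u} [Field k] [IsAlgClosed k] {S X : Scheme.{u}}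
    [X.Over (Spec (CommRingCat.of k))] [S.Over (Spec (CommRingCat.of k))]
    (pS : S ⟶ Spec (CommRingCat.of k)) (pX : X ⟶ Spec (CommRingCat.of k))
    (hXp : X ↘ Spec (CommRingCat.of k) = pX) (hSp : S ↘ Spec (CommRingCat.of k) = pS)
    [IsProper pS] [SmoothOfRelativeDimension 1 pS] [IrreducibleSpace ↥S]
    (n : ℕ) [IsProper pX] [SmoothOfRelativeDimension (n + 1) pX]
    (f : X ⟶ S) (hf : f ≫ pS = pX) (F : Finset ↥X) (hF : ∀ x ∈ F, IsClosed ({x} : Set X))
    (U : X.Opens) (hU : ∀ x : ↥X, x ∉ F → x ∈ U)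
    (hUf : Smooth (U.ι ≫ f)) {Ω : Type u} [Field Ω] (η : Spec (CommRingCat.of Ω) ⟶ S)
    (hη : η.base (IsLocalRing.closedPoint Ω) = genericPoint ↥S)
    [(pullback f η).Over (Spec (CommRingCat.of Ω))]
    (hover : pullback f η ↘ Spec (CommRingCat.of Ω) = pullback.snd f η)
    (hA0 : Curv2.euler Ω (pullback f η)
        ((Scheme.Modules.pullback (pullback.fst f η)).obj (extPow (Omega.sheaf pX) 0)) =
      Curv2.euler Ω (pullback f η) (extPow (Omega.sheaf (pullback.snd f η)) 0))
    (hA : ∀ p, Curv2.euler Ω (pullback f η)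
        ((Scheme.Modules.pullback (pullback.fst f η)).obj (extPow (Omega.sheaf pX) (p + 1))) =
      Curv2.euler Ω (pullback f η) (extPow (Omega.sheaf (pullback.snd f η)) (p + 1)) +
        Curv2.euler Ω (pullback f η) (extPow (Omega.sheaf (pullback.snd f η)) p)) :
    c k (n + 1) (Omega.sheaf pX) = c k 1 (Omega.sheaf pS) * c Ω n (Omega.sheaf (pullback.snd f η)) -
      (-1) ^ n * ∑ x ∈ F, (VanCyc.milnor pX f x : ℤ) := by
  subst hXp hSp
  have hsmS : Smooth (S ↘ Spec (CommRingCat.of k)) := SmoothOfRelativeDimension.smooth 1 _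
  have hsmX : Smooth (X ↘ Spec (CommRingCat.of k)) := SmoothOfRelativeDimension.smooth (n + 1) _
  have hred : IsReduced S := Groth.Agent.Flat2B.SmoothGeom.isReduced_of_smooth (S ↘ Spec (CommRingCat.of k))
  have hint : IsIntegral S := isIntegral_of_irreducibleSpace_of_isReduced S
  have hSdim : topologicalKrullDim S ≤ 1 :=
    Groth.Agent.Lefpen.H716.CIGeom.topologicalKrullDim_le_of_smooth 1 (S ↘ Spec (CommRingCat.of k))
  have hΩX := H878.OmegaRank.isFinLocFreeOfRank_omega (n + 1) (X ↘ Spec (CommRingCat.of k))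
  have hΩS := H878.OmegaRank.isFinLocFreeOfRank_omega 1 (S ↘ Spec (CommRingCat.of k))
  have hUfin : {x : X | x ∉ U}.Finite := F.finite_toSet.subset fun x hx => by
    by_contra h
    exact hx (hU x h)
  have hsm : SmoothOfRelativeDimension n (pullback.snd f η) := H691.GenFib.smooth_snd hf hUfin hη n hUf
  have hpr : IsProper (pullback.snd f η) := H691.GenFib.proper_snd hf η
  have hΩF := H878.OmegaRank.isFinLocFreeOfRank_omega n (pullback.snd f η)
  obtain ⟨T, hT, ⟨eT⟩, s, hs1, hs2⟩ := A4.exists_section (X ↘ Spec (CommRingCat.of k))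
    (S ↘ Spec (CommRingCat.of k)) f hf (Groth.Agent.Ega2.QCohLocal.isFinLocFreeOfRank_one_iff.mp hΩS)
  have h1 : ∀ x, x ∉ F → secIdeal (appS s ⊤ (one X ⊤)) x = ⊤ := fun x hx => by
    rw [← coordAt_eq]
    exact hs2 x (A4.formallySmooth_stalkMap f U x (hU x hx))
  have h := CohId.coh_identity k hSdim f n hΩX (Groth.Agent.Ega2.QCohLocal.isFinLocFreeOfRank_one_iff.mpr hT) hΩS
    eT (appS s ⊤ (one X ⊤)) F hF h1
    (fun G => Curv2.euler Ω (pullback f η) ((Scheme.Modules.pullback (pullback.fst f η)).obj G))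
    (fun G hG M hM => H769.EulerTwist.euler_twist k hSdim f hf G hG M hM Ω η hη hover)
    (fun p => Curv2.euler Ω (pullback f η) (extPow (Omega.sheaf (pullback.snd f η)) p)) hA0 hA
    (euler_zero Ω (Groth.Agent.Krr.H502.KosZero.isZero_of_isExtPow hΩF
      (isExtPow_extPow (isFinLocFree_of_rank hΩF) (n + 1)) (Nat.lt_succ_self n)))
  rw [h]
  congr 2
  refine Finset.sum_congr rfl fun x hx => ?_
  have h3 := hs1 x (hF x hx)
  rw [coordAt_eq] at h3
  rw [h3]
  rfl

/-- **The coherent Milnor formula.** -/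
theorem coh_formula {k : Type u} [Field k] [IsAlgClosed k] {S X : Scheme.{u}}
    [X.Over (Spec (CommRingCat.of k))] [S.Over (Spec (CommRingCat.of k))]
    (pS : S ⟶ Spec (CommRingCat.of k)) (pX : X ⟶ Spec (CommRingCat.of k))
    (hXp : X ↘ Spec (CommRingCat.of k) = pX) (hSp : S ↘ Spec (CommRingCat.of k) = pS)
    [IsProper pS] [SmoothOfRelativeDimension 1 pS] [IrreducibleSpace ↥S]
    (n : ℕ) [IsProper pX] [SmoothOfRelativeDimension (n + 1) pX]
    (f : X ⟶ S) (hf : f ≫ pS = pX) (F : Finset ↥X) (hF : ∀ x ∈ F, IsClosed ({x} : Set X))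
    (U : X.Opens) (hU : ∀ x : ↥X, x ∉ F → x ∈ U)
    (hUf : Smooth (U.ι ≫ f)) {Ω : Type u} [Field Ω] (η : Spec (CommRingCat.of Ω) ⟶ S)
    (hη : η.base (IsLocalRing.closedPoint Ω) = genericPoint ↥S)
    [(pullback f η).Over (Spec (CommRingCat.of Ω))]
    (hover : pullback f η ↘ Spec (CommRingCat.of Ω) = pullback.snd f η) :
    c k (n + 1) (Omega.sheaf pX) = c k 1 (Omega.sheaf pS) * c Ω n (Omega.sheaf (pullback.snd f η)) -
      (-1) ^ n * ∑ x ∈ F, (VanCyc.milnor pX f x : ℤ) := by
  have hUfin : {x : X | x ∉ U}.Finite := F.finite_toSet.subset fun x hx => by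
    by_contra h
    exact hx (hU x h)
  exact coh_formula_of pS pX hXp hSp n f hf F hF U hU hUf η hη hover
    (H878.A6Main.euler_pull_zero n hf hUfin hUf hη)
    (H878.A6Main.euler_pull_succ n hf hUfin hUf hη hover)

/-- The coherent Milnor formula for an arbitrary finite set containing the critical points. -/
theorem coh_formula' {k : Type u} [Field k] [IsAlgClosed k] {S X : Scheme.{u}}
    [X.Over (Spec (CommRingCat.of k))] [S.Over (Spec (CommRingCat.of k))]
    (pS : S ⟶ Spec (CommRingCat.of k)) (pX : X ⟶ Spec (CommRingCat.of k))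
    (hXp : X ↘ Spec (CommRingCat.of k) = pX) (hSp : S ↘ Spec (CommRingCat.of k) = pS)
    [IsProper pS] [SmoothOfRelativeDimension 1 pS] [IrreducibleSpace ↥S]
    (n : ℕ) [IsProper pX] [SmoothOfRelativeDimension (n + 1) pX]
    (f : X ⟶ S) (hf : f ≫ pS = pX) (F : Finset ↥X)
    (U : X.Opens) (hU : ∀ x : ↥X, x ∉ F → x ∈ U)
    (hUf : Smooth (U.ι ≫ f)) {Ω : Type u} [Field Ω] (η : Spec (CommRingCat.of Ω) ⟶ S)
    (hη : η.base (IsLocalRing.closedPoint Ω) = genericPoint ↥S)
    [(pullback f η).Over (Spec (CommRingCat.of Ω))]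
    (hover : pullback f η ↘ Spec (CommRingCat.of Ω) = pullback.snd f η) :
    c k (n + 1) (Omega.sheaf pX) = c k 1 (Omega.sheaf pS) * c Ω n (Omega.sheaf (pullback.snd f η)) -
      (-1) ^ n * ∑ x ∈ F, (VanCyc.milnor pX f x : ℤ) := by
  classical
  have hUfin : {x : X | x ∉ U}.Finite := F.finite_toSet.subset fun x hx => by
    by_contra h
    exact hx (hU x h)
  have h := coh_formula pS pX hXp hSp n f hf (F.filter fun x => IsClosed ({x} : Set X))
    (fun x hx => (Finset.mem_filter.mp hx).2) U (fun x hx => by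
      by_contra hxU
      exact hx (Finset.mem_filter.mpr ⟨by_contra fun h => hxU (hU x h),
        H691.GenFib.isClosed_of_notMem pX hUfin hxU⟩)) hUf η hη hover
  rw [h, Finset.sum_filter]
  congr 2
  refine Finset.sum_congr rfl fun x _ => ?_
  split_ifs with hx
  · rfl
  · rw [A4.milnor_eq_zero pX f x hx]
    rfl

end Groth.Agent.Vancyc.H326.FormulaA
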