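import Groth.Agent.Krr.H487.LocBasisPull
import Groth.Agent.VarietyA.FiniteSupportK
import Groth.Agent.CycB.DegSky
import Groth.Prelude.Def_Milnor

/-!
# Stalks of cokernels with cyclic target, and their dimension over the base field
-/

set_option autoImplicit false

universe u

open CategoryTheory CategoryTheory.Limits AlgebraicGeometry Opposite TopologicalSpace
open Groth.Agent.Sga67.Sec Groth.Agent.Sga67.LocBasis Groth.Agent.Sga67.LocBasisStalk
open Groth.Agent.CycB.StalkExact

namespace Groth.Agent.Vancyc.H326.StalkQuot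

variable {X : Scheme.{u}}

/-- The stalk of a cokernel `L' → L → coker` where `L` is locally generated by one element `v` is `O_{X,x} / I`. -/
theorem nonempty_stalk_cokernel {L' L : X.Modules} (φ : L' ⟶ L) {x : X} {W : X.Opens} (hx : x ∈ W)
    (v : Sec L W) (hv : IsLocBasis (fun _ : Fin 1 => v)) (I : Ideal (X.presheaf.stalk x))
    (hI : ∀ c : X.presheaf.stalk x, c • ger L x hx v ∈ LinearMap.range (stalkLin φ x) ↔ c ∈ I) :
    Nonempty ((cokernel φ).presheaf.stalk x ≃ₗ[X.presheaf.stalk x] (X.presheaf.stalk x ⧸ I)) := by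
  obtain ⟨β, hβ⟩ := Groth.Agent.Krr.H487.LocBasisPull.exists_stalkBasis hv x hx
  let m : X.presheaf.stalk x →ₗ[X.presheaf.stalk x] L.presheaf.stalk x :=
    LinearMap.toSpanSingleton _ _ (ger L x hx v)
  have hm : Function.Surjective m := by
    intro z
    refine ⟨β.repr z 0, ?_⟩
    have h1 := β.sum_repr z
    rw [Fin.sum_univ_one, hβ] at h1
    exact h1
  let π := stalkLin (cokernel.π φ) x
  have hex : Function.Exact (stalkLin φ x) π :=
    stalkLin_exact (ShortComplex.mk φ (cokernel.π φ) (cokernel.condition φ)) (ShortComplex.exact_cokernel φ) x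
  have hπ : Function.Surjective π := stalkLin_surjective (cokernel.π φ) x
  let ψ := π ∘ₗ m
  have hψ : Function.Surjective ψ := hπ.comp hm
  have hker : LinearMap.ker ψ = I := by
    ext c
    rw [LinearMap.mem_ker, ← hI c]
    change π (m c) = 0 ↔ _
    rw [hex (m c)]
    rfl
  exact ⟨((Submodule.quotEquivOfEq _ _ hker.symm).trans (ψ.quotKerEquivOfSurjective hψ)).symm⟩

section Field

variable (k : Type u) [Field k] [X.Over (Spec (CommRingCat.of k))]

attribute [local instance] Groth.Agent.VarietyA.FiniteSupportK.stalkModK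

theorem stalkMap_eq_algebraMap (x : X) (c : k) :
    Curv2.stalkMap k X x c =
      @algebraMap k (X.presheaf.stalk x) _ _ (VanCyc.stalkAlgebra (X ↘ Spec (CommRingCat.of k)) x) c := rfl

/-- The dimension of a stalk isomorphic to `O_{X,x} / I`. -/
theorem finrank_stalk_eq (M : X.Modules) (x : X) (I : Ideal (X.presheaf.stalk x))
    (e : M.presheaf.stalk x ≃ₗ[X.presheaf.stalk x] (X.presheaf.stalk x ⧸ I)) :
    Module.finrank k (M.presheaf.stalk x) =
      (letI := VanCyc.stalkAlgebra (X ↘ Spec (CommRingCat.of k)) x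
       Module.finrank k (X.presheaf.stalk x ⧸ I)) := by
  letI := VanCyc.stalkAlgebra (X ↘ Spec (CommRingCat.of k)) x
  let e' : M.presheaf.stalk x ≃ₗ[k] (X.presheaf.stalk x ⧸ I) :=
    { e.toAddEquiv with
      map_smul' := fun c m => by
        change e (Curv2.stalkMap k X x c • m) = c • e m
        rw [map_smul, stalkMap_eq_algebraMap]
        rfl }
  exact e'.finrank_eq

/-- The Euler characteristic of a coherent module with finite closed support is the sum of the dimensions of its
stalks. -/
theorem euler_eq_sum_finrank [IsProper (X ↘ Spec (CommRingCat.of k))] (Q : X.Modules) (hQ : Coh.IsCoh Q)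
    (F : Finset X) (hc : ∀ x ∈ F, IsClosed ({x} : Set X))
    (hM : ∀ x, x ∉ F → Subsingleton (Q.presheaf.stalk x))
    (hfin : ∀ x ∈ F, ((X ↘ Spec (CommRingCat.of k)).residueFieldMap x).hom.Finite) :
    Curv2.euler k X Q = ∑ x ∈ F, (Module.finrank k (Q.presheaf.stalk x) : ℤ) := by
  classical
  rw [CycB.DegSky.euler_eq_sum k X Q hQ (Z := (F : Set X)) F.finite_toSet hc hM hfin]
  rw [show (F.finite_toSet).toFinset = F by ext; simp]
  refine Finset.sum_congr rfl fun x hx => ?_
  rw [CycB.DegSky.finrank_stalk k X Q x (hfin x hx)]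
  push_cast
  rfl

end Field

end Groth.Agent.Vancyc.H326.StalkQuot
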