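import Groth.Agent.Vancyc.H326.LocExact
import Groth.Agent.Vancyc.H326.AltSum
import Groth.Agent.Vancyc.H326.StalkQuot

/-!
# The Euler characteristic of the Koszul complexes

* `kos_euler`: `t : G ⟶ O_X`, `G` of rank `r` on `X` proper over `k`, zeros at a finite set `F` of closed points with
  good (Cohen–Macaulay) local behaviour: `Σ (-1)^i χ(Λ^i G) = Σ_{x ∈ F} dim_k O_{X,x} / zeroIdeal t x`;
* `residueFieldMap_finite`.
-/

set_option autoImplicit false

universe u

open CategoryTheory CategoryTheory.Limits AlgebraicGeometry Opposite TopologicalSpace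
open Groth.Agent.Sga67.Sec Groth.Agent.Sga67.LocBasis Groth.Agent.Sga67.LocBasisStalk
  Groth.Agent.Sga67.ExtSheaf
open Groth.Agent.CycB.StalkExact
open Groth.Agent.Vancyc.H326.ChiLam Groth.Agent.Vancyc.H326.LocExact Groth.Agent.Vancyc.H326.StalkQuot
  Groth.Agent.Vancyc.H326.AltSum
open Groth.Agent.Krr.H502.KosExt Groth.Agent.Krr.H502.KosSheaf Groth.Agent.Krr.H502.KosZero

namespace Groth.Agent.Vancyc.H326.KosEuler

theorem residueFieldMap_finite {k : Type u} [Field k] {X : Scheme.{u}} (f : X ⟶ Spec (CommRingCat.of k))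
    [LocallyOfFiniteType f] (x : X) (hx : IsClosed ({x} : Set X)) : (f.residueFieldMap x).hom.Finite := by
  have := isClosed_singleton_iff_isClosedImmersion.mp hx
  have h1 : IsFinite (X.fromSpecResidueField x ≫ f) :=
    (isFinite_iff_locallyOfFiniteType_of_jacobsonSpace (f := X.fromSpecResidueField x ≫ f)).mpr inferInstance
  rw [← Scheme.Hom.SpecMap_residueFieldMap_fromSpecResidueField] at h1
  have h2 : IsFinite (Spec.map (f.residueFieldMap x)) :=
    IsFinite.of_comp _ ((Spec (CommRingCat.of k)).fromSpecResidueField (f x))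
  exact (IsFinite.SpecMap_iff (f.residueFieldMap x)).mp h2

variable {X : Scheme.{u}}

theorem ger_eq_smul_one {x : X} {V : X.Opens} (hx : x ∈ V) (s : Sec (Coh.structureModule X) V) :
    ger (Coh.structureModule X) x hx s =
      gerO x hx (toO s) • ger (Coh.structureModule X) x (show x ∈ (⊤ : X.Opens) from trivial) (one X ⊤) := by
  conv_lhs => rw [← toO_smul_one s]
  rw [ger_smul, ← res_one X (le_top : V ≤ ⊤), ger_res]

theorem smul_ger_one_injective (x : X) {a b : X.presheaf.stalk x}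
    (h : a • ger (Coh.structureModule X) x (show x ∈ (⊤ : X.Opens) from trivial) (one X ⊤) =
      b • ger (Coh.structureModule X) x (show x ∈ (⊤ : X.Opens) from trivial) (one X ⊤)) : a = b := by
  obtain ⟨β, hβ⟩ := Groth.Agent.Krr.H487.LocBasisPull.exists_stalkBasis
    (Groth.Agent.Sga67.TensorOps.isLocBasis_one (X := X)) x trivial
  have h1 : a • β 0 = b • β 0 := by rw [hβ]; exact h
  have h2 := congrArg (fun y => β.repr y 0) h1
  simpa using h2

theorem mem_range_ctr_iff {G L₁ : X.Modules} (t : G ⟶ Coh.structureModule X) (φ₁ : Phi (0 + 1) G L₁)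
    {d : L₁ ⟶ Coh.structureModule X} (hd : IsCtr t φ₁ (phi0 G) d) (x : X) (c : X.presheaf.stalk x) :
    c • ger (Coh.structureModule X) x (show x ∈ (⊤ : X.Opens) from trivial) (one X ⊤) ∈
      LinearMap.range (stalkLin d x) ↔ c ∈ zeroIdeal t x := by
  constructor
  · rintro ⟨z, hz⟩
    obtain ⟨V, hxV, w, rfl⟩ := exists_ger L₁ x z
    obtain ⟨_, ⟨W, rfl⟩, hxW, hWV⟩ := Opens.isBasis_iff_nbhd.mp (affineBasis X) hxV
    rw [stalkLin_ger, ← ger_res _ hWV x hxW, ← appS_res, ger_eq_smul_one] at hz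
    rw [← smul_ger_one_injective x hz, toO_ctr hd]
    exact Ideal.subset_span ⟨W.1, hxW, _, rfl⟩
  · intro hc
    induction hc using Submodule.span_induction with
    | zero => rw [zero_smul]; exact Submodule.zero_mem _
    | add y y' _ _ hy hy' => rw [add_smul]; exact Submodule.add_mem _ hy hy'
    | smul a y _ hy => rw [smul_assoc]; exact Submodule.smul_mem _ _ hy
    | mem y hy =>
      obtain ⟨U, hxU, s, rfl⟩ := hy
      obtain ⟨_, ⟨W, rfl⟩, hxW, hWU⟩ := Opens.isBasis_iff_nbhd.mp (affineBasis X) hxU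
      refine ⟨ger L₁ x hxW ((φ₁ W).symm ((exteriorPower.oneEquiv _ _).symm (res G hWU s))), ?_⟩
      rw [stalkLin_ger, ger_eq_smul_one, toO_ctr hd, LinearEquiv.apply_symm_apply]
      congr 1
      have h1 : (exteriorPower.oneEquiv Γ(X, W.1) (Sec G W.1))
          ((exteriorPower.oneEquiv _ _).symm (res G hWU s)) = res G hWU s :=
        (exteriorPower.oneEquiv _ _).apply_symm_apply _
      refine (congrArg (fun y => gerO x hxW (lin t W.1 y)) h1).trans ?_
      rw [lin_res, gerO_res]
      rfl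

attribute [local instance] Groth.Agent.VarietyA.FiniteSupportK.stalkModK

/-- The Euler characteristic of the contraction Koszul complex. -/
theorem kos_euler (k : Type u) [Field k] [X.Over (Spec (CommRingCat.of k))]
    [IsProper (X ↘ Spec (CommRingCat.of k))] {r : ℕ} {G : X.Modules} (hG : FlatMod.IsFinLocFreeOfRank r G)
    (t : G ⟶ Coh.structureModule X) (F : Finset X) (hF : ∀ x ∈ F, IsClosed ({x} : Set X))
    (h1 : ∀ x, x ∉ F → zeroIdeal t x = ⊤) (h2 : ∀ x ∈ F, Good r x (zeroIdeal t x)) :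
    c k r G = ∑ x ∈ F, ((letI := VanCyc.stalkAlgebra (X ↘ Spec (CommRingCat.of k)) x
      Module.finrank k (X.presheaf.stalk x ⧸ zeroIdeal t x) : ℕ) : ℤ) := by
  classical
  have : IsLocallyNoetherian X := LocallyOfFiniteType.isLocallyNoetherian (X ↘ (Spec (CommRingCat.of k)))
  have hG' := isFinLocFree_of_rank hG
  have hloc : LocEx t := locEx hG t fun x => by
    by_cases hx : x ∈ F
    · exact h2 x hx
    · exact Or.inl (h1 x hx)
  let L : ℕ → X.Modules := fun k => match k with
    | 0 => Coh.structureModule X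
    | k + 1 => extPow G (k + 1)
  let φ : ∀ k, Phi k G (L k) := fun k => match k with
    | 0 => phi0 G
    | k + 1 => (exists_phi (isExtPow_extPow hG' (k + 1))).choose
  have hφ : ∀ k, PhiComp (φ k) := fun k => match k with
    | 0 => phi0_comp G
    | k + 1 => (exists_phi (isExtPow_extPow hG' (k + 1))).choose_spec
  have hL : ∀ k, ExtPow.IsExtPow k G (L k) := fun k => ⟨φ k, hφ k⟩
  choose δ hδ using fun k => exists_ctr t (φ (k + 1)) (hφ (k + 1)) (φ k) (hφ k)
  have hδδ : ∀ k, δ (k + 1) ≫ δ k = 0 := fun k => ctr_comp t _ _ _ (hδ (k + 1)) (hδ k)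
  have hcoh : ∀ i, Coh.IsCoh (L i) := fun i =>
    Groth.Agent.PerfA.CohSerre.isCoh_of_isFinLocFree (isFinLocFree_of_isExtPow hG' (hL i))
  have hex := fun k => exact_of_locEx hloc _ _ _ (hδ (k + 1)) (hδ k) (hδδ k)
  have hχ := euler_cokernel' k L hcoh δ hδδ hex r 0 fun i hi =>
    isZero_of_isExtPow hG (hL i) (by omega)
  have hst : ∀ x, Nonempty ((cokernel (δ 0)).presheaf.stalk x ≃ₗ[X.presheaf.stalk x]
      (X.presheaf.stalk x ⧸ zeroIdeal t x)) := fun x =>
    nonempty_stalk_cokernel (δ 0) (show x ∈ (⊤ : X.Opens) from trivial) (one X ⊤)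
      (Groth.Agent.Sga67.TensorOps.isLocBasis_one (X := X)) _ (fun c => mem_range_ctr_iff t _ (hδ 0) x c)
  rw [c_eq k hG' (L := L) fun i _ => hL i]
  rw [show ∑ i ∈ Finset.range (r + 1), (-1 : ℤ) ^ i * Curv2.euler k X (L i) =
    Curv2.euler k X (cokernel (δ 0)) from hχ.symm]
  rw [euler_eq_sum_finrank k (cokernel (δ 0)) (CycB.CohProp.isCoh_cokernel _ (hcoh (0 + 1)) (hcoh 0)) F hF
    (fun x hx => by
      obtain ⟨e⟩ := hst x
      rw [h1 x hx] at e
      have : Subsingleton (X.presheaf.stalk x ⧸ (⊤ : Ideal (X.presheaf.stalk x))) :=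
        Ideal.Quotient.subsingleton_iff.mpr rfl
      exact e.toEquiv.subsingleton)
    (fun x hx => residueFieldMap_finite _ x (hF x hx))]
  refine Finset.sum_congr rfl fun x _ => ?_
  obtain ⟨e⟩ := hst x
  rw [finrank_stalk_eq k (cokernel (δ 0)) x _ e]

end Groth.Agent.Vancyc.H326.KosEuler
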