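import Groth.Agent.Ega4A.RegCM
import Groth.Agent.CalgB.CM3
import Groth.Agent.Models.RegSpread
import Groth.Agent.Sga67.Sec
import Mathlib.AlgebraicGeometry.Noetherian

/-!
# Regular sequences at a point of a scheme spread out

* `isWeaklyRegular_of_cm`: in a Cohen–Macaulay local ring of dimension `r`, `r` elements of the maximal ideal with
  quotient of dimension zero form a regular sequence;
* `exists_basicOpen_isWeaklyRegular`: a sequence in `Γ(X, W)` (`W` affine) which is weakly regular at `x` is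
  weakly regular on a basic open neighbourhood of `x`.
-/

set_option autoImplicit false

universe u

open CategoryTheory CategoryTheory.Limits AlgebraicGeometry TopologicalSpace RingTheory.Sequence IsLocalRing
open Groth.Agent.Sga67.Sec

namespace Groth.Agent.Vancyc.H326.LocReg

theorem isWeaklyRegular_of_cm (R : Type u) [CommRing R] [hR : LocCoh.IsCohenMacaulayLocalRing R] (rs : List R)
    (hm : ∀ a ∈ rs, a ∈ maximalIdeal R) (hlen : (rs.length : WithBot ℕ∞) ≤ ringKrullDim R)
    (hq : ringKrullDim (R ⧸ Ideal.ofList rs) ≤ 0) : IsWeaklyRegular R rs := by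
  have e : (R ⧸ Ideal.ofList rs • (⊤ : Submodule R R)) ≃ₗ[R] R ⧸ Ideal.ofList rs :=
    Submodule.quotEquivOfEq _ _ (by rw [smul_eq_mul, Ideal.mul_top])
  refine Groth.Agent.CalgB.CM3.isWeaklyRegular_of_supportDim_add_length_le
    hR.supportDim_eq_depth rs hm ?_
  rw [Module.supportDim_eq_of_equiv e, Module.supportDim_quotient_eq_ringKrullDim,
    Module.supportDim_self_eq_ringKrullDim]
  calc ringKrullDim (R ⧸ Ideal.ofList rs) + (rs.length : WithBot ℕ∞) ≤ 0 + ringKrullDim R :=
        add_le_add hq hlen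
    _ = ringKrullDim R := zero_add _

variable {X : Scheme.{u}} [IsLocallyNoetherian X]

theorem exists_basicOpen_isWeaklyRegular {W : X.Opens} (hW : IsAffineOpen W) {x : X} (hx : x ∈ W)
    {r : ℕ} (a : Fin r → Γ(X, W))
    (h : IsWeaklyRegular (X.presheaf.stalk x) (List.ofFn fun i => X.presheaf.germ W x hx (a i)))
    (U : X.Opens) (hxU : x ∈ U) :
    ∃ g : Γ(X, W), x ∈ X.basicOpen g ∧ X.basicOpen g ≤ U ∧
      IsWeaklyRegular Γ(X, X.basicOpen g)
        (List.ofFn fun i => resO X (X.basicOpen_le g) (a i)) := by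
  have hN : IsNoetherianRing Γ(X, W) := IsLocallyNoetherian.component_noetherian ⟨W, hW⟩
  set p := hW.primeIdealOf ⟨x, hx⟩ with hp
  obtain ⟨g₀, hg₀, hxg₀⟩ := hW.exists_basicOpen_le (V := U) ⟨x, hxU⟩ hx
  let _ : Algebra Γ(X, W) (X.presheaf.stalk x) := TopCat.Presheaf.algebra_section_stalk X.presheaf ⟨x, hx⟩
  have hloc : IsLocalization.AtPrime (X.presheaf.stalk x) p.asIdeal :=
    hW.isLocalization_stalk ⟨x, hx⟩
  let e : Localization.AtPrime p.asIdeal ≃ₐ[Γ(X, W)] X.presheaf.stalk x :=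
    IsLocalization.algEquiv p.asIdeal.primeCompl _ _
  have h1 : IsWeaklyRegular (Localization.AtPrime p.asIdeal)
      ((List.ofFn a).map (algebraMap _ (Localization.AtPrime p.asIdeal))) := by
    refine (AddEquiv.isWeaklyRegular_congr (e := e.toAddEquiv) ?_).mpr h
    rw [List.map_ofFn, List.forall₂_iff_get]
    refine ⟨by simp, fun i h1 h2 z => ?_⟩
    simp only [List.get_eq_getElem, List.getElem_ofFn, Function.comp_apply, smul_eq_mul]
    change e (_ * z) = _ * e z
    rw [map_mul, e.commutes]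
    rfl
  obtain ⟨g₁, hg₁, hg₁'⟩ := Groth.Agent.Models.RegSpread.exists_away p.asIdeal (List.ofFn a) h1
  refine ⟨g₁ * g₀, ?_, ?_, ?_⟩
  · rw [Scheme.basicOpen_mul]
    refine ⟨(X.mem_basicOpen g₁ x hx).mpr ?_, hxg₀⟩
    exact IsLocalization.map_units (M := p.asIdeal.primeCompl) (X.presheaf.stalk x) ⟨g₁, hg₁⟩
  · rw [Scheme.basicOpen_mul]
    exact inf_le_right.trans hg₀
  · have h2 := hg₁' (g₁ * g₀) ⟨g₀, rfl⟩
    let _ : Algebra Γ(X, W) Γ(X, X.basicOpen (g₁ * g₀)) := (resO X (X.basicOpen_le (g₁ * g₀))).toAlgebra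
    have hl : IsLocalization.Away (g₁ * g₀) Γ(X, X.basicOpen (g₁ * g₀)) := hW.isLocalization_basicOpen _
    let e' : Localization.Away (g₁ * g₀) ≃ₐ[Γ(X, W)] Γ(X, X.basicOpen (g₁ * g₀)) :=
      IsLocalization.algEquiv (Submonoid.powers (g₁ * g₀)) _ _
    refine (AddEquiv.isWeaklyRegular_congr (e := e'.toAddEquiv) ?_).mp h2
    rw [List.map_ofFn, List.forall₂_iff_get]
    refine ⟨by simp, fun i h1 h2 z => ?_⟩
    simp only [List.get_eq_getElem, List.getElem_ofFn, Function.comp_apply, smul_eq_mul]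
    change e' (_ * z) = _ * e' z
    rw [map_mul, e'.commutes]
    rfl

end Groth.Agent.Vancyc.H326.LocReg
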