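import Groth.Agent.Krr.H502.KosExt
import Mathlib.LinearAlgebra.Dual.Basis

/-!
# The star operator between exterior powers of `M*` and of `M`, and exactness of the wedge complex

Let `M` be free with basis `e : Fin n → M`.  Iterated contraction of the volume element gives linear maps
`star : ⋀^k M* → ⋀^j M` (`j + k = n`) with `m ∧ star u = star (ctr_m u)`; they are bijective, so exactness of the
contraction complex `KosEx (Dual.eval m)` gives exactness of `⋀^p M → ⋀^(p+1) M → …`, `z ↦ m ∧ z`, in degrees `< n`.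
-/

set_option autoImplicit false

universe u v

namespace Groth.Agent.Vancyc.H326.Star

open Groth.Agent.Sga67.SymKoszulAlg Groth.Agent.Sga67.KosAlt Groth.Agent.Krr.H502.KosExt
open exteriorPower (ιMulti)
open Module (Dual Basis)

variable {A : Type u} [CommRing A] {M : Type v} [AddCommGroup M] [Module A M]

theorem ctr_add (θ θ' : M →ₗ[A] A) (a : ℕ) (x : ⋀[A]^(a + 1) M) :
    ctr (θ + θ') a x = ctr θ a x + ctr θ' a x := by
  have h : ctr (θ + θ') a = ctr θ a + ctr θ' a := by
    refine hom_ext' fun v => ?_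
    rw [LinearMap.add_apply, ctr_ιMulti, ctr_ιMulti, ctr_ιMulti, ← Finset.sum_add_distrib]
    refine Finset.sum_congr rfl fun i _ => ?_
    rw [LinearMap.add_apply, add_smul, smul_add]
  exact LinearMap.congr_fun h x

theorem ctr_smul (r : A) (θ : M →ₗ[A] A) (a : ℕ) (x : ⋀[A]^(a + 1) M) :
    ctr (r • θ) a x = r • ctr θ a x := by
  have h : ctr (r • θ) a = r • ctr θ a := by
    refine hom_ext' fun v => ?_
    rw [LinearMap.smul_apply, ctr_ιMulti, ctr_ιMulti, Finset.smul_sum]
    refine Finset.sum_congr rfl fun i _ => ?_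
    rw [LinearMap.smul_apply, smul_assoc, smul_comm]
  exact LinearMap.congr_fun h x

theorem ctr_swap (θ θ' : M →ₗ[A] A) (a : ℕ) (x : ⋀[A]^(a + 2) M) :
    ctr θ a (ctr θ' (a + 1) x) = - ctr θ' a (ctr θ (a + 1) x) := by
  have h := ctr_ctr (θ + θ') a x
  rw [ctr_add, ctr_add, map_add, map_add, ctr_ctr, ctr_ctr, zero_add, add_zero] at h
  exact eq_neg_of_add_eq_zero_left h

/-- iterated contraction `⋀^n M → ⋀^j M` by `k = n - j` linear forms -/
noncomputable def itc (n : ℕ) : (k j : ℕ) → j + k = n → (Fin k → Dual A M) → (⋀[A]^n M →ₗ[A] ⋀[A]^j M)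
  | 0, j, h, _ => (by cases h; exact LinearMap.id)
  | k + 1, j, h, φ => (ctr (φ 0) j) ∘ₗ (itc n k (j + 1) (by omega) (Fin.tail φ))

theorem itc_succ (n k j : ℕ) (h : j + (k + 1) = n) (φ : Fin (k + 1) → Dual A M) (x : ⋀[A]^n M) :
    itc n (k + 1) j h φ x = ctr (φ 0) j (itc n k (j + 1) (by omega) (Fin.tail φ) x) := rfl

theorem ctr_itc_eq_zero (n : ℕ) (θ : Dual A M) : ∀ (k j : ℕ) (h : (j + 1) + k = n) (φ : Fin k → Dual A M)
    (x : ⋀[A]^n M), (∃ i, φ i = θ) → ctr θ j (itc n k (j + 1) h φ x) = 0 := by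
  intro k
  induction k with
  | zero => rintro j h φ x ⟨i, -⟩; exact i.elim0
  | succ k ih =>
    rintro j h φ x ⟨i, hi⟩
    rw [itc_succ]
    refine Fin.cases (motive := fun i => φ i = θ → _) ?_ (fun i hi => ?_) i hi
    · intro hi
      rw [hi, ctr_ctr]
    · rw [ctr_swap, ih (j + 1) (by omega) (Fin.tail φ) x ⟨i, hi⟩, map_zero, neg_zero]

/-- the iterated contraction as an alternating map in the linear forms -/
noncomputable def itcAlt (n k j : ℕ) (h : j + k = n) (x : ⋀[A]^n M) :
    AlternatingMap A (Dual A M) (⋀[A]^j M) (Fin k) where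
  toFun φ := itc n k j h φ x
  map_update_add' := by
    intro inst φ i θ θ'
    have hinst : inst = instDecidableEqFin k := Subsingleton.elim _ _
    subst hinst
    induction k generalizing j with
    | zero => exact i.elim0
    | succ k ih =>
      simp only [itc_succ]
      refine Fin.cases (motive := fun i => ctr (Function.update φ i (θ + θ') 0) j
          (itc n k (j + 1) (by omega) (Fin.tail (Function.update φ i (θ + θ'))) x) =
        ctr (Function.update φ i θ 0) j (itc n k (j + 1) (by omega) (Fin.tail (Function.update φ i θ)) x) +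
        ctr (Function.update φ i θ' 0) j
          (itc n k (j + 1) (by omega) (Fin.tail (Function.update φ i θ')) x)) ?_ (fun i => ?_) i
      · rw [Fin.tail_update_zero, Fin.tail_update_zero, Fin.tail_update_zero, Function.update_self,
          Function.update_self, Function.update_self, ctr_add]
      · rw [Fin.tail_update_succ, Fin.tail_update_succ, Fin.tail_update_succ,
          Function.update_of_ne (Fin.succ_ne_zero i).symm, Function.update_of_ne (Fin.succ_ne_zero i).symm,
          Function.update_of_ne (Fin.succ_ne_zero i).symm, ← map_add]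
        exact congrArg _ (ih (j + 1) (by omega) (Fin.tail φ) i)
  map_update_smul' := by
    intro inst φ i c θ
    have hinst : inst = instDecidableEqFin k := Subsingleton.elim _ _
    subst hinst
    induction k generalizing j with
    | zero => exact i.elim0
    | succ k ih =>
      simp only [itc_succ]
      refine Fin.cases (motive := fun i => ctr (Function.update φ i (c • θ) 0) j
          (itc n k (j + 1) (by omega) (Fin.tail (Function.update φ i (c • θ))) x) =
        c • ctr (Function.update φ i θ 0) j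
          (itc n k (j + 1) (by omega) (Fin.tail (Function.update φ i θ)) x)) ?_ (fun i => ?_) i
      · rw [Fin.tail_update_zero, Fin.tail_update_zero, Function.update_self, Function.update_self, ctr_smul]
      · rw [Fin.tail_update_succ, Fin.tail_update_succ,
          Function.update_of_ne (Fin.succ_ne_zero i).symm, Function.update_of_ne (Fin.succ_ne_zero i).symm,
          ← map_smul]
        exact congrArg _ (ih (j + 1) (by omega) (Fin.tail φ) i)
  map_eq_zero_of_eq' := by
    intro φ i i' hφ hi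
    induction k generalizing j with
    | zero => exact i.elim0
    | succ k ih =>
      rw [itc_succ]
      rcases Fin.eq_zero_or_eq_succ i with rfl | ⟨a, rfl⟩
      · rcases Fin.eq_zero_or_eq_succ i' with rfl | ⟨b, rfl⟩
        · exact absurd rfl hi
        · exact ctr_itc_eq_zero n _ k j _ _ x ⟨b, hφ.symm⟩
      · rcases Fin.eq_zero_or_eq_succ i' with rfl | ⟨b, rfl⟩
        · exact ctr_itc_eq_zero n _ k j _ _ x ⟨a, hφ⟩
        · rw [ih (j + 1) (by omega) (Fin.tail φ) a b hφ (fun h => hi (congrArg _ h)), map_zero]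

/-- iterated contraction of `x` as a linear map on `⋀^k M*` -/
noncomputable def star (n k j : ℕ) (h : j + k = n) (x : ⋀[A]^n M) : ⋀[A]^k (Dual A M) →ₗ[A] ⋀[A]^j M :=
  exteriorPower.alternatingMapLinearEquiv (itcAlt n k j h x)

theorem star_ιMulti (n k j : ℕ) (h : j + k = n) (x : ⋀[A]^n M) (φ : Fin k → Dual A M) :
    star n k j h x (ιMulti A k φ) = itc n k j h φ x := by
  rw [star, exteriorPower.alternatingMapLinearEquiv_apply_ιMulti]
  rfl

theorem star_crt (n k j : ℕ) (h : j + (k + 1) = n) (x : ⋀[A]^n M) (φ : Dual A M) (u : ⋀[A]^k (Dual A M)) :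
    star n (k + 1) j h x (crt φ k u) = ctr φ j (star n k (j + 1) (by omega) x u) := by
  have h1 : (star n (k + 1) j h x) ∘ₗ (crt φ k) = (ctr φ j) ∘ₗ (star n k (j + 1) (by omega) x) := by
    refine hom_ext' fun v => ?_
    rw [LinearMap.comp_apply, LinearMap.comp_apply, crt_ιMulti, star_ιMulti, star_ιMulti, itc_succ,
      Fin.cons_zero, Fin.tail_cons]
  exact LinearMap.congr_fun h1 u

/-- `m ∧ star u = star (ctr_m u)` -/
theorem crt_star (n : ℕ) (x : ⋀[A]^n M) (m : M) (hx : crt m n x = 0) : ∀ (k j : ℕ) (h : j + (k + 1) = n)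
    (u : ⋀[A]^(k + 1) (Dual A M)),
    crt m j (star n (k + 1) j h x u) = star n k (j + 1) (by omega) x (ctr (Dual.eval A M m) k u) := by
  intro k
  induction k with
  | zero =>
    intro j h u
    have h1 : (crt m j) ∘ₗ (star n (0 + 1) j h x) =
        (star n 0 (j + 1) (by omega) x) ∘ₗ (ctr (Dual.eval A M m) 0) := by
      refine hom_ext' fun v => ?_
      rw [LinearMap.comp_apply, LinearMap.comp_apply, ιMulti_eq_crt, star_crt, ctr_crt_zero, map_smul,
        star_ιMulti]
      cases h
      change crt m j (ctr (v 0) j x) = (v 0) m • x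
      have h2 := ctr_crt (v 0) m j x
      rw [hx, map_zero] at h2
      exact (sub_eq_zero.mp h2.symm).symm
    exact LinearMap.congr_fun h1 u
  | succ k ih =>
    intro j h u
    have h1 : (crt m j) ∘ₗ (star n (k + 1 + 1) j h x) =
        (star n (k + 1) (j + 1) (by omega) x) ∘ₗ (ctr (Dual.eval A M m) (k + 1)) := by
      refine hom_ext' fun v => ?_
      rw [LinearMap.comp_apply, LinearMap.comp_apply, ιMulti_eq_crt, star_crt, ctr_crt, map_sub, map_smul,
        star_crt]
      rw [← ih (j + 1) (by omega)]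
      have h2 := ctr_crt (v 0) m j (star n (k + 1) (j + 1) (by omega) x (ιMulti A (k + 1) (Fin.tail v)))
      rw [h2]
      exact (sub_sub_cancel _ _).symm
    exact LinearMap.congr_fun h1 u

section Bij

variable {n : ℕ} (e : Basis (Fin n) A M)

theorem exists_ctr_eq (j : ℕ) (hj : j < n) (z : ⋀[A]^j M) :
    z ∈ Submodule.span A {y | ∃ (i : Fin n) (w : ⋀[A]^(j + 1) M), y = ctr (e.coord i) j w} := by
  have h0 : z ∈ (⊤ : Submodule A (⋀[A]^j M)) := trivial
  rw [← (e.exteriorPower j).span_eq] at h0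
  refine Submodule.span_mono ?_ h0
  rintro _ ⟨J, rfl⟩
  have hJ : J.1.card = j := J.2
  obtain ⟨i, -, hi⟩ : ∃ i ∈ (Finset.univ : Finset (Fin n)), i ∉ J.1 :=
    Finset.exists_mem_notMem_of_card_lt_card (by rw [hJ, Finset.card_univ, Fintype.card_fin]; exact hj)
  refine ⟨i, crt (e i) j (e.exteriorPower j J), ?_⟩
  rw [exteriorPower.basis_apply, exteriorPower.ιMulti_family]
  have hz : ∀ l, e.coord i (e (Set.powersetCard.ofFinEmbEquiv.symm J l)) = 0 := by
    intro l
    have h1 : Set.powersetCard.ofFinEmbEquiv.symm J l ∈ J :=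
      (Set.powersetCard.mem_range_ofFinEmbEquiv_symm_iff_mem J _).mp ⟨l, rfl⟩
    have h2 : Set.powersetCard.ofFinEmbEquiv.symm J l ≠ i := fun h => hi (h ▸ h1)
    rw [Basis.coord_apply, Basis.repr_self, Finsupp.single_eq_of_ne h2.symm]
  cases j with
  | zero => rw [ctr_crt_zero, Basis.coord_apply, Basis.repr_self, Finsupp.single_eq_same, one_smul]
  | succ j =>
    rw [ctr_crt, ctr_ιMulti, Basis.coord_apply, Basis.repr_self, Finsupp.single_eq_same, one_smul]
    simp only [Function.comp_apply, hz, zero_smul, smul_zero, Finset.sum_const_zero, map_zero, sub_zero]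

include e in
theorem star_surjective (x : ⋀[A]^n M) (hx : ∀ z : ⋀[A]^n M, ∃ a : A, a • x = z) :
    ∀ (k j : ℕ) (h : j + k = n), Function.Surjective (star n k j h x) := by
  intro k
  induction k with
  | zero =>
    intro j h z
    cases h
    obtain ⟨a, ha⟩ := hx z
    refine ⟨a • ιMulti A 0 ![], ?_⟩
    rw [map_smul, star_ιMulti]
    exact ha
  | succ k ih =>
    intro j h z
    have h1 := exists_ctr_eq e j (by omega) z
    have h2 : Submodule.span A {y | ∃ (i : Fin n) (w : ⋀[A]^(j + 1) M), y = ctr (e.coord i) j w} ≤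
        LinearMap.range (star n (k + 1) j h x) := by
      rw [Submodule.span_le]
      rintro _ ⟨i, w, rfl⟩
      obtain ⟨u, rfl⟩ := ih (j + 1) (by omega) w
      exact ⟨crt (e.coord i) k u, star_crt n k j h x _ u⟩
    exact h2 h1

include e in
theorem star_bijective (x : ⋀[A]^n M) (hx : ∀ z : ⋀[A]^n M, ∃ a : A, a • x = z)
    (k j : ℕ) (h : j + k = n) : Function.Bijective (star n k j h x) := by
  refine ⟨?_, star_surjective e x hx k j h⟩
  let e₁ := (e.dualBasis.exteriorPower k).equivFun
  let e₂ := (e.exteriorPower j).equivFun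
  let σ : Set.powersetCard (Fin n) k ≃ Set.powersetCard (Fin n) j :=
    Set.powersetCard.compl (by rw [Fintype.card_fin]; omega)
  let g : ⋀[A]^k (Dual A M) →ₗ[A] ⋀[A]^k (Dual A M) :=
    e₁.symm.toLinearMap ∘ₗ (LinearEquiv.funCongrLeft A A σ).toLinearMap ∘ₗ e₂.toLinearMap ∘ₗ star n k j h x
  have hg : Function.Surjective g :=
    e₁.symm.surjective.comp ((LinearEquiv.funCongrLeft A A σ).surjective.comp
      (e₂.surjective.comp (star_surjective e x hx k j h)))
  have : Module.Finite A (⋀[A]^k (Dual A M)) := Module.Finite.of_basis (e.dualBasis.exteriorPower k)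
  have hg' := OrzechProperty.injective_of_surjective_endomorphism g hg
  intro u u' huu'
  apply hg'
  change e₁.symm ((LinearEquiv.funCongrLeft A A σ) (e₂ (star n k j h x u))) =
    e₁.symm ((LinearEquiv.funCongrLeft A A σ) (e₂ (star n k j h x u')))
  rw [huu']

include e in
/-- a generator of `⋀^n M` -/
theorem exists_vol : ∃ x : ⋀[A]^n M, (∀ z : ⋀[A]^n M, ∃ a : A, a • x = z) ∧
    (∀ a : A, a • x = 0 → a = 0) := by
  have hu : ∀ J : Set.powersetCard (Fin n) n, J.1 = Finset.univ := fun J =>
    Finset.eq_univ_of_card _ (by rw [Fintype.card_fin]; exact J.2)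
  let J₀ : Set.powersetCard (Fin n) n := ⟨Finset.univ, by rw [Set.powersetCard.mem_iff]; simp⟩
  refine ⟨e.exteriorPower n J₀, fun z => ⟨(e.exteriorPower n).repr z J₀, ?_⟩, fun a ha => ?_⟩
  · conv_rhs => rw [← (e.exteriorPower n).sum_repr z]
    rw [Finset.sum_eq_single J₀]
    · intro J _ hJ
      exact absurd (Subtype.ext ((hu J).trans (hu J₀).symm)) hJ
    · intro h
      exact absurd (Finset.mem_univ _) h
  · have h := congrArg (fun y => (e.exteriorPower n).repr y J₀) ha
    simpa using h

include e in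
/-- High exterior powers vanish. -/
theorem eq_zero_of_lt {k : ℕ} (hk : n < k) (z : ⋀[A]^k M) : z = 0 := by
  have : IsEmpty (Set.powersetCard (Fin n) k) := by
    refine ⟨fun J => ?_⟩
    have h2 : J.1.card = k := J.2
    have h3 := Finset.card_le_univ J.1
    rw [Fintype.card_fin] at h3
    omega
  apply (e.exteriorPower k).ext_elem
  intro J
  exact this.elim J

/-- Exactness of the wedge complex `z ↦ m ∧ z` in degrees `< n`. -/
def WedgeEx (n : ℕ) (m : M) : Prop :=
  (∀ z : ⋀[A]^0 M, 0 < n → crt m 0 z = 0 → z = 0) ∧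
    ∀ (p : ℕ) (z : ⋀[A]^(p + 1) M), p + 1 < n → crt m (p + 1) z = 0 → ∃ w : ⋀[A]^p M, crt m p w = z

include e in
theorem wedgeEx_of_kosEx (m : M) (hK : KosEx (Dual.eval A M m)) : WedgeEx (A := A) n m := by
  obtain ⟨x, hx, -⟩ := exists_vol e
  have hx0 : crt m n x = 0 := eq_zero_of_lt e (Nat.lt_succ_self n) _
  constructor
  · intro z hn hz
    obtain ⟨n, rfl⟩ : ∃ n', n = n' + 1 := ⟨n - 1, by omega⟩
    obtain ⟨u, rfl⟩ := star_surjective e x hx (n + 1) 0 (by omega) z
    rw [crt_star _ x m hx0 n 0 (by omega)] at hz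
    have h1 := (star_bijective e x hx n (0 + 1) (by omega)).1 (hz.trans (map_zero _).symm)
    obtain ⟨w, rfl⟩ := hK n u h1
    have hw : w = 0 := eq_zero_of_lt e.dualBasis (by omega) w
    rw [hw, map_zero, map_zero]
  · intro p z hp hz
    obtain ⟨k, hk⟩ : ∃ k, p + 1 + (k + 1) = n := ⟨n - (p + 2), by omega⟩
    obtain ⟨u, rfl⟩ := star_surjective e x hx (k + 1) (p + 1) hk z
    rw [crt_star _ x m hx0 k (p + 1) hk] at hz
    have h1 := (star_bijective e x hx k (p + 1 + 1) (by omega)).1 (hz.trans (map_zero _).symm)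
    obtain ⟨w, rfl⟩ := hK k u h1
    exact ⟨star n (k + 1 + 1) p (by omega) x w, crt_star _ x m hx0 (k + 1) p (by omega) w⟩

include e in
theorem wedgeEx_of_isWeaklyRegular (m : M)
    (h : RingTheory.Sequence.IsWeaklyRegular A (List.ofFn (fun i => e.coord i m))) : WedgeEx (A := A) n m := by
  refine wedgeEx_of_kosEx e m (kosEx_of_isWeaklyRegular e.dualBasis _ ?_)
  have h1 : ∀ i, (Dual.eval A M m) (e.dualBasis i) = e.coord i m := fun i => by
    rw [Dual.eval_apply, Basis.dualBasis_apply, Basis.coord_apply]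
  simp only [h1]
  exact h

include e in
theorem wedgeEx_of_isUnit (m : M) (φ : Dual A M) (h : IsUnit (φ m)) : WedgeEx (A := A) n m :=
  wedgeEx_of_kosEx e m (kosEx_of_isUnit _ φ h)

/-- The top cokernel of the wedge complex: for a generator `x` of `⋀^(n+1) M`, `a • x ∈ m ∧ ⋀^n M` iff `a` is in the
ideal of the coordinates of `m`. -/
theorem smul_mem_range_iff {n : ℕ} (e : Basis (Fin (n + 1)) A M) (m : M) (x : ⋀[A]^(n + 1) M)
    (hx : ∀ z : ⋀[A]^(n + 1) M, ∃ a : A, a • x = z) (hx' : ∀ a : A, a • x = 0 → a = 0) (a : A) :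
    (∃ w : ⋀[A]^n M, crt m n w = a • x) ↔ a ∈ Ideal.span (Set.range fun i => e.coord i m) := by
  have hx0 : crt m (n + 1) x = 0 := eq_zero_of_lt e (Nat.lt_succ_self _) _
  have h0 : ∀ v : ⋀[A]^0 (Dual A M), ∃ c : A, v = c • ιMulti A 0 ![] := by
    intro v
    refine ⟨exteriorPower.zeroEquiv A _ v, ?_⟩
    apply (exteriorPower.zeroEquiv A (Dual A M)).injective
    rw [map_smul, exteriorPower.zeroEquiv_ιMulti, smul_eq_mul, mul_one]
  have h1 : ∀ (φ : Dual A M) (v : ⋀[A]^0 (Dual A M)),
      star (n + 1) 0 (n + 1) (by omega) x (ctr (Dual.eval A M m) 0 (crt φ 0 v)) =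
        (φ m * exteriorPower.zeroEquiv A _ v) • x := by
    intro φ v
    obtain ⟨c, rfl⟩ := h0 v
    rw [ctr_crt_zero, map_smul, map_smul, map_smul, exteriorPower.zeroEquiv_ιMulti, star_ιMulti, smul_smul,
      smul_eq_mul, mul_one]
    rfl
  constructor
  · rintro ⟨w, hw⟩
    obtain ⟨u, rfl⟩ := star_surjective e x hx 1 n (by omega) w
    rw [crt_star _ x m hx0 0 n (by omega)] at hw
    have h2 : ∀ u : ⋀[A]^(0 + 1) (Dual A M), ∃ b ∈ Ideal.span (Set.range fun i => e.coord i m),
        star (n + 1) 0 (n + 1) (by omega) x (ctr (Dual.eval A M m) 0 u) = b • x := by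
      intro u
      have hu : u ∈ Submodule.span A (Set.range (ιMulti A (0 + 1) (M := Dual A M))) := by
        rw [exteriorPower.ιMulti_span]; trivial
      induction hu using Submodule.span_induction with
      | zero => exact ⟨0, Ideal.zero_mem _, by rw [map_zero, map_zero, zero_smul]⟩
      | add y y' _ _ hy hy' =>
        obtain ⟨b, hb, h⟩ := hy
        obtain ⟨b', hb', h'⟩ := hy'
        exact ⟨b + b', Ideal.add_mem _ hb hb', by rw [map_add, map_add, h, h', add_smul]⟩
      | smul c y _ hy =>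
        obtain ⟨b, hb, h⟩ := hy
        exact ⟨c * b, Ideal.mul_mem_left _ _ hb, by rw [map_smul, map_smul, h, smul_smul]⟩
      | mem y hy =>
        obtain ⟨v, rfl⟩ := hy
        refine ⟨v 0 m, ?_, ?_⟩
        · have h3 : v 0 m = ∑ i, e.repr m i * v 0 (e i) := by
            conv_lhs => rw [← e.sum_repr m, map_sum]
            exact Finset.sum_congr rfl fun i _ => by rw [map_smul, smul_eq_mul]
          rw [h3]
          exact Ideal.sum_mem _ fun i _ => Ideal.mul_mem_right _ _ (Ideal.subset_span ⟨i, rfl⟩)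
        · rw [ιMulti_eq_crt, h1, exteriorPower.zeroEquiv_ιMulti, mul_one]
    obtain ⟨b, hb, h⟩ := h2 u
    rw [hw] at h
    have h3 : a = b := by
      rw [← sub_eq_zero]
      apply hx'
      exact (sub_smul a b x).trans (by rw [h, sub_self])
    rw [h3]
    exact hb
  · intro ha
    induction ha using Submodule.span_induction with
    | zero => exact ⟨0, by rw [map_zero, zero_smul]⟩
    | add y y' _ _ hy hy' =>
      obtain ⟨w, hw⟩ := hy
      obtain ⟨w', hw'⟩ := hy'
      exact ⟨w + w', by rw [map_add, hw, hw', add_smul]⟩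
    | smul c y _ hy =>
      obtain ⟨w, hw⟩ := hy
      exact ⟨c • w, by rw [map_smul, hw, smul_smul, smul_eq_mul]⟩
    | mem y hy =>
      obtain ⟨i, rfl⟩ := hy
      refine ⟨star (n + 1) 1 n (by omega) x (crt (e.coord i) 0 (ιMulti A 0 ![])), ?_⟩
      rw [crt_star _ x m hx0 0 n (by omega), h1, exteriorPower.zeroEquiv_ιMulti, mul_one]

end Bij

end Groth.Agent.Vancyc.H326.Star
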