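import Groth.Agent.Vancyc.H326.KosEuler

/-!
# The Euler characteristic of the wedge complex of a section

`wedge_euler`: `E` of rank `m + 1` on `X` proper over `k`, `σ` a section with good zeros at the finite set `F` of closed
points: `Σ (-1)^(m+1-i) χ(Λ^i E) = Σ_{x ∈ F} dim_k O_{X,x} / secIdeal σ x`.
-/

set_option autoImplicit false

universe u

open CategoryTheory CategoryTheory.Limits AlgebraicGeometry Opposite TopologicalSpace
open Groth.Agent.Sga67.Sec Groth.Agent.Sga67.LocBasis Groth.Agent.Sga67.LocBasisStalk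
  Groth.Agent.Sga67.ExtSheaf Groth.Agent.Sga67.SymKoszulAlg
open Groth.Agent.CycB.StalkExact
open Groth.Agent.Vancyc.H326.ChiLam Groth.Agent.Vancyc.H326.LocExact Groth.Agent.Vancyc.H326.StalkQuot
  Groth.Agent.Vancyc.H326.AltSum Groth.Agent.Vancyc.H326.KosEuler Groth.Agent.Vancyc.H326.Star
  Groth.Agent.Vancyc.H326.WedgeSheaf Groth.Agent.Vancyc.H326.SecIdeal

namespace Groth.Agent.Vancyc.H326.WedgeEuler

variable {X : Scheme.{u}}

/-- A local generator of the top exterior power. -/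
theorem exists_top_gen {n : ℕ} {E L : X.Modules} (φ : Phi n E L) (hφ : PhiComp φ) {W : X.affineOpens}
    {b : Fin n → Sec E W.1} (hb : IsLocBasis b) : ∃ v : Sec L W.1, IsLocBasis (fun _ : Fin 1 => v) := by
  have hu : ∀ J : Set.powersetCard (Fin n) n, J.1 = Finset.univ := fun J =>
    Finset.eq_univ_of_card _ (by rw [Fintype.card_fin]; exact J.2)
  let J₀ : Set.powersetCard (Fin n) n := ⟨Finset.univ, by rw [Set.powersetCard.mem_iff]; simp⟩
  have h1 := isLocBasis_extPow φ hφ (U := W) hb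
  let e : Set.powersetCard (Fin n) n ≃ Fin 1 :=
    { toFun := fun _ => 0
      invFun := fun _ => J₀
      left_inv := fun J => Subtype.ext ((hu J₀).trans (hu J).symm)
      right_inv := fun i => (Subsingleton.elim _ _) }
  exact ⟨_, h1.reindex e.symm⟩

theorem gen_smul {L : X.Modules} {W : X.Opens} {v : Sec L W} (hv : IsLocBasis (fun _ : Fin 1 => v))
    {V : X.Opens} (h : V ≤ W) (s : Sec L V) : ∃ a : Γ(X, V), a • res L h v = s := by
  obtain ⟨a, ha⟩ := (hv V h).2 s
  refine ⟨a 0, ?_⟩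
  rw [← ha, comb_apply, Fin.sum_univ_one]

theorem gen_smul_eq_zero {L : X.Modules} {W : X.Opens} {v : Sec L W} (hv : IsLocBasis (fun _ : Fin 1 => v))
    {V : X.Opens} (h : V ≤ W) (a : Γ(X, V)) (ha : a • res L h v = 0) : a = 0 := by
  have h1 : comb (fun _ : Fin 1 => v) h (fun _ => a) = comb (fun _ : Fin 1 => v) h (fun _ => 0) := by
    rw [comb_apply, comb_apply, Fin.sum_univ_one, Fin.sum_univ_one, ha, zero_smul]
  exact congrFun ((hv V h).1 h1) 0

/-- The criterion on an affine open. -/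
theorem wedge_range_iff {m : ℕ} {E L₀ L₁ : X.Modules} (σ : Sec E (⊤ : X.Opens)) (φ₀ : Phi m E L₀)
    (φ₁ : Phi (m + 1) E L₁) {d : L₀ ⟶ L₁} (hd : IsWedge σ φ₀ φ₁ d) {W : X.Opens}
    {b : Fin (m + 1) → Sec E W} (hb : IsLocBasis b) {v : Sec L₁ W} (hv : IsLocBasis (fun _ : Fin 1 => v))
    (V : X.affineOpens) (h : V.1 ≤ W) (a : Γ(X, V.1)) :
    (∃ w : Sec L₀ V.1, appS d V.1 w = a • res L₁ h v) ↔
      a ∈ Ideal.span (Set.range fun i => (hb.basis h).coord i (res E le_top σ)) := by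
  rw [← smul_mem_range_iff (hb.basis h) (res E le_top σ : Sec E V.1) (φ₁ V (res L₁ h v)) ?_ ?_ a]
  · constructor
    · rintro ⟨w, hw⟩
      refine ⟨φ₀ V w, ?_⟩
      rw [← hd V w, hw, map_smul]
    · rintro ⟨w, hw⟩
      refine ⟨(φ₀ V).symm w, ?_⟩
      apply (φ₁ V).injective
      rw [hd V, LinearEquiv.apply_symm_apply, map_smul]
      exact hw
  · intro z
    obtain ⟨a, ha⟩ := gen_smul hv h ((φ₁ V).symm z)
    refine ⟨a, ?_⟩
    rw [← map_smul, ha, LinearEquiv.apply_symm_apply]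
  · intro a ha
    rw [← map_smul] at ha
    exact gen_smul_eq_zero hv h a ((φ₁ V).injective (ha.trans (map_zero _).symm))

theorem mem_range_wedge_iff {m : ℕ} {E L₀ L₁ : X.Modules} (σ : Sec E (⊤ : X.Opens)) (φ₀ : Phi m E L₀)
    (φ₁ : Phi (m + 1) E L₁) {d : L₀ ⟶ L₁} (hd : IsWedge σ φ₀ φ₁ d) {W : X.affineOpens}
    {b : Fin (m + 1) → Sec E W.1} (hb : IsLocBasis b) {v : Sec L₁ W.1} (hv : IsLocBasis (fun _ : Fin 1 => v))
    {x : X} (hx : x ∈ W.1) (c : X.presheaf.stalk x) :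
    c • ger L₁ x hx v ∈ LinearMap.range (stalkLin d x) ↔ c ∈ secIdeal σ x := by
  obtain ⟨β, hβ⟩ := Groth.Agent.Krr.H487.LocBasisPull.exists_stalkBasis hv x hx
  have hinj : ∀ {a a' : X.presheaf.stalk x}, a • ger L₁ x hx v = a' • ger L₁ x hx v → a = a' := by
    intro a a' h
    have h1 : a • β 0 = a' • β 0 := by rw [hβ]; exact h
    have h2 := congrArg (fun y => β.repr y 0) h1
    simpa using h2
  have hsub : ∀ (V : X.affineOpens) (h : V.1 ≤ W.1) (hxV : x ∈ V.1) (a : Γ(X, V.1)),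
      a ∈ Ideal.span (Set.range fun i => (hb.basis h).coord i (res E le_top σ)) → gerO x hxV a ∈ secIdeal σ x := by
    intro V h hxV a ha
    have h1 : secIdeal σ x = Ideal.span (Set.range fun i =>
        gerO x hxV ((hb.basis h).coord i (res E le_top σ))) := by
      rw [secIdeal_eq σ hb hx]
      congr 2
      funext i
      rw [← gerO_res h x hxV, ← coord_res hb h, res_res]
    rw [h1]
    have h2 := Ideal.mem_map_of_mem (X.presheaf.germ V.1 x hxV).hom ha
    rw [Ideal.map_span, ← Set.range_comp] at h2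
    exact h2
  constructor
  · rintro ⟨z, hz⟩
    obtain ⟨V, hxV, w, rfl⟩ := exists_ger L₀ x z
    obtain ⟨_, ⟨V', rfl⟩, hxV', hV'⟩ := Opens.isBasis_iff_nbhd.mp (affineBasis X)
      (show x ∈ V ⊓ W.1 from ⟨hxV, hx⟩)
    have hVV : V'.1 ≤ V := hV'.trans inf_le_left
    have hVW : V'.1 ≤ W.1 := hV'.trans inf_le_right
    obtain ⟨a, ha⟩ := gen_smul hv hVW (appS d V'.1 (res L₀ hVV w))
    have h1 : a ∈ Ideal.span (Set.range fun i => (hb.basis hVW).coord i (res E le_top σ)) :=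
      (wedge_range_iff σ φ₀ φ₁ hd hb hv V' hVW a).mp ⟨_, ha.symm⟩
    rw [stalkLin_ger, ← ger_res _ hVV x hxV', ← appS_res, ← ha, ger_smul, ger_res] at hz
    rw [← hinj hz]
    exact hsub V' hVW hxV' a h1
  · intro hc
    rw [secIdeal_eq σ hb hx] at hc
    induction hc using Submodule.span_induction with
    | zero => rw [zero_smul]; exact Submodule.zero_mem _
    | add y y' _ _ hy hy' => rw [add_smul]; exact Submodule.add_mem _ hy hy'
    | smul a y _ hy => rw [smul_assoc]; exact Submodule.smul_mem _ _ hy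
    | mem y hy =>
      obtain ⟨i, rfl⟩ := hy
      obtain ⟨w, hw⟩ := (wedge_range_iff σ φ₀ φ₁ hd hb hv W le_rfl
        ((hb.basis le_rfl).coord i (res E le_top σ))).mpr (Ideal.subset_span ⟨i, rfl⟩)
      refine ⟨ger L₀ x hx w, ?_⟩
      rw [stalkLin_ger, hw, ger_smul, ger_res]

attribute [local instance] Groth.Agent.VarietyA.FiniteSupportK.stalkModK

/-- The Euler characteristic of the wedge Koszul complex. -/
theorem wedge_euler (k : Type u) [Field k] [X.Over (Spec (CommRingCat.of k))]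
    [IsProper (X ↘ Spec (CommRingCat.of k))] {m : ℕ} {E : X.Modules} (hE : FlatMod.IsFinLocFreeOfRank (m + 1) E)
    (σ : Sec E (⊤ : X.Opens)) (F : Finset X) (hF : ∀ x ∈ F, IsClosed ({x} : Set X))
    (h1 : ∀ x, x ∉ F → secIdeal σ x = ⊤) (h2 : ∀ x ∈ F, Good (m + 1) x (secIdeal σ x)) :
    ∑ i ∈ Finset.range (m + 2), (-1 : ℤ) ^ (m + 1 - i) * Curv2.euler k X (extPow E i) =
      ∑ x ∈ F, ((letI := VanCyc.stalkAlgebra (X ↘ Spec (CommRingCat.of k)) x
      Module.finrank k (X.presheaf.stalk x ⧸ secIdeal σ x) : ℕ) : ℤ) := by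
  classical
  have : IsLocallyNoetherian X := LocallyOfFiniteType.isLocallyNoetherian (X ↘ (Spec (CommRingCat.of k)))
  have hE' := isFinLocFree_of_rank hE
  have hloc : LocWEx (m + 1) σ := locWEx hE σ fun x => by
    by_cases hx : x ∈ F
    · exact h2 x hx
    · exact Or.inl (h1 x hx)
  choose φ hφ using fun i => exists_phi (isExtPow_extPow hE' i)
  choose δ hδ using fun i => exists_wedge σ (φ i) (hφ i) (φ (i + 1)) (hφ (i + 1))
  have hδδ : ∀ i, δ i ≫ δ (i + 1) = 0 := fun i => wedge_comp σ _ _ _ (hδ i) (hδ (i + 1))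
  have hcoh : ∀ i, Coh.IsCoh (extPow E i) := fun i =>
    Groth.Agent.PerfA.CohSerre.isCoh_of_isFinLocFree (isFinLocFree_extPow hE' i)
  have hmono : Mono (δ 0) := mono_of_locWEx (Nat.succ_pos m) hloc _ _ (hδ 0)
  have hχ := euler_cokernel k (extPow E) hcoh δ hδδ hmono m fun i hi =>
    exact_of_locWEx hloc (by omega) _ _ _ (hδ i) (hδ (i + 1)) (hδδ i)
  have hst : ∀ x, Nonempty ((cokernel (δ m)).presheaf.stalk x ≃ₗ[X.presheaf.stalk x]
      (X.presheaf.stalk x ⧸ secIdeal σ x)) := fun x => by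
    obtain ⟨W, b, hxW, hb⟩ := exists_affine_basis hE x
    obtain ⟨v, hv⟩ := exists_top_gen (φ (m + 1)) (hφ (m + 1)) hb
    exact nonempty_stalk_cokernel (δ m) hxW v hv _
      (fun c => mem_range_wedge_iff σ _ _ (hδ m) hb hv hxW c)
  rw [← hχ]
  rw [euler_eq_sum_finrank k (cokernel (δ m)) (CycB.CohProp.isCoh_cokernel _ (hcoh m) (hcoh (m + 1))) F hF
    (fun x hx => by
      obtain ⟨e⟩ := hst x
      rw [h1 x hx] at e
      have : Subsingleton (X.presheaf.stalk x ⧸ (⊤ : Ideal (X.presheaf.stalk x))) :=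
        Ideal.Quotient.subsingleton_iff.mpr rfl
      exact e.toEquiv.subsingleton)
    (fun x hx => residueFieldMap_finite _ x (hF x hx))]
  refine Finset.sum_congr rfl fun x _ => ?_
  obtain ⟨e⟩ := hst x
  rw [finrank_stalk_eq k (cokernel (δ m)) x _ e]

end Groth.Agent.Vancyc.H326.WedgeEuler
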